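import Cfsg.Agent.Lib.CFun.CoprimeQuad.Partner

/-!
# Root subgroups of different classes commute
-/

set_option autoImplicit false
set_option linter.style.haveILetI false

namespace CfsgLib.CoprimeQuad

open Cfsg CfsgLib.QuadPair Polynomial

variable {k : Type*} [Field k] {M : Type*} [AddCommGroup M] [Module k M] [FiniteDimensional k M]
variable {H : Subgroup (LinearMap.GeneralLinearGroup k M)} {σ τ ρ : LinearMap.GeneralLinearGroup k M}

section Algebra

omit [FiniteDimensional k M]

variable {a b e s : M →ₗ[k] M}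

theorem eq_neg_sum (hea : e * a = 0) (hae : a * e = 0) (hs : bracket b e = s) (he : bracket s a = e) :
    e = -(e * b * a + a * b * e) := by
  conv_lhs => rw [← he, ← hs]
  simp only [bracket, sub_mul, mul_sub, mul_assoc, hea, mul_zero]
  rw [← mul_assoc a e b, hae, zero_mul]
  abel

theorem eq_zero_of_aba (hea : e * a = 0) (hae : a * e = 0) (hbeb : b * e * b = 0) (haba : a * b * a = 0)
    (hs : bracket b e = s) (he : bracket s a = e) : e = 0 := by
  have h := eq_neg_sum hea hae hs he
  have habe : a * b * e = 0 := by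
    rw [h, mul_neg, mul_add, show a * b * (e * b * a) = a * (b * e * b) * a by simp only [mul_assoc],
      show a * b * (a * b * e) = a * b * a * (b * e) by simp only [mul_assoc], hbeb, haba]
    simp
  have heba : e * b * a = 0 := by
    rw [habe, add_zero] at h
    conv_lhs => rw [h]
    rw [neg_mul, neg_mul, show e * b * a * b * a = e * b * (a * b * a) by simp only [mul_assoc], haba,
      mul_zero, neg_zero]
  rw [h, habe, heba]
  simp

theorem conj_three (hea : e * a = 0) (hae : a * e = 0)
    (hbsb : b * s = 0 ∧ s * b = 0) (hasa : a * s * a = 0) (hbeb : b * e * b = 0)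
    (hs : bracket b e = s) (he : bracket s a = e) :
    (1 + a) * ((1 + b) * ((1 + a) * s * (1 - a)) * (1 - b)) * (1 - a) = -e := by
  have h1 : (1 + a) * s * (1 - a) = s - e := by
    rw [show (1 + a) * s * (1 - a) = s - (s * a - a * s) - a * s * a by noncomm_ring, hasa, sub_zero,
      show s * a - a * s = e from he]
  have h2 : (1 + b) * (s - e) * (1 - b) = -e := by
    rw [show (1 + b) * (s - e) * (1 - b) =
        s - e + b * s - s * b - (b * e - e * b) - b * s * b + b * e * b by noncomm_ring,
      hbsb.1, hbsb.2, zero_mul, hbeb, show b * e - e * b = s from hs]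
    abel
  rw [h1, h2, show (1 + a) * -e * (1 - a) = -e + (e * a - a * e) + a * e * a by noncomm_ring, hea, hae,
    zero_mul]
  simp

end Algebra

variable (h2 : (2 : k) ≠ 0) (h3 : Nat.card k ≠ 3)
include h2 h3

/-- If `ρ` is the bracket of `(s, a)` and `s` is the bracket of `(b, ρ)`, then `a ~ b` and `s ~ ρ`. -/
theorem sameClass_of_brackets {s a b : LinearMap.GeneralLinearGroup k M}
    (hρ : ρ ∈ minimalQuadraticElements H) (hs : s ∈ minimalQuadraticElements H)
    (ha : a ∈ minimalQuadraticElements H) (hb : b ∈ minimalQuadraticElements H)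
    (hn : IsNilPair (alpha s) (alpha a)) (he : bracket (alpha s) (alpha a) = alpha ρ)
    (hn' : IsNilPair (alpha b) (alpha ρ)) (he' : bracket (alpha b) (alpha ρ) = alpha s) :
    SameClass H (sameActionSubgroup H a) (sameActionSubgroup H b) ∧
      SameClass H (sameActionSubgroup H s) (sameActionSubgroup H ρ) := by
  have hea : alpha ρ * alpha a = 0 := by rw [← he]; exact (bracket_right (sq_of_min ha) hn).2
  have hae : alpha a * alpha ρ = 0 := by rw [← he]; exact (bracket_right (sq_of_min ha) hn).1
  have hbs : alpha b * alpha s = 0 ∧ alpha s * alpha b = 0 := by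
    rw [← he']; exact bracket_left (sq_of_min hb) hn'
  rcases dichotomy_root h2 h3 ha hb with hab | ⟨f, hf⟩
  · exact absurd (eq_zero_of_aba hea hae hn'.1 hab.1 he' he) (alpha_ne_zero hρ)
  refine ⟨sameClass_of_sep h2 h3 ha hb hf, a * b * a, mul_mem (mul_mem ha.1.1 hb.1.1) ha.1.1, ?_⟩
  have hG : a * b * a ∈ H := mul_mem (mul_mem ha.1.1 hb.1.1) ha.1.1
  have hα : alpha (a * b * a * s * (a * b * a)⁻¹) = -alpha ρ := by
    rw [alpha_conj, mul_inv_rev, mul_inv_rev]
    simp only [Units.val_mul, inv_val_of_sq a (sq_of_min ha), inv_val_of_sq b (sq_of_min hb)]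
    rw [alpha_add_one a, alpha_add_one b, ← conj_three hea hae hbs hn.2 hn'.1 he' he]
    simp only [mul_assoc]
  rw [conjBy_sameAction hG]
  refine (sameAction_eq_of_mem hρ ((mem_sameAction_iff hρ).2 ?_)
    (ne_one_of_min (conj_mem_minimal hG hs))).2.symm
  rw [hα]
  exact neg_mem (alpha_mem_actSpace hρ)

omit h2 h3

variable [Finite k] {p : ℕ}

/-- The pure element of a noncommuting nilpotent pair. -/
theorem pure_data (S : Setting p k) (hO : Cfsg.pCore p ↥H = ⊥) (hσ : σ ∈ minimalQuadraticElements H)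
    (hτ : τ ∈ minimalQuadraticElements H) (hn : IsNilPair (alpha σ) (alpha τ))
    (hne : bracket (alpha σ) (alpha τ) ≠ 0) :
    ∃ (hρ : commElt σ τ ∈ minimalQuadraticElements H) (s b : LinearMap.GeneralLinearGroup k M),
      alpha σ - alpha s ∈ actSpace H (commElt σ τ) (sq_of_min hρ) ∧
      s ∈ minimalQuadraticElements H ∧ IsNilPair (alpha s) (alpha τ) ∧
      bracket (alpha s) (alpha τ) = bracket (alpha σ) (alpha τ) ∧
      SameClass H (sameActionSubgroup H s) (sameActionSubgroup H (commElt σ τ)) ∧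
      ∀ a ∈ minimalQuadraticElements H, IsNilPair (alpha s) (alpha a) →
        bracket (alpha s) (alpha a) = bracket (alpha σ) (alpha τ) →
        SameClass H (sameActionSubgroup H a) (sameActionSubgroup H b) := by
  have D := commData hσ hτ hn hne
  obtain ⟨v, hv, e1, e2⟩ := exists_opposite_of_core S hO D.mem
  rw [D.eq] at e1 e2
  obtain ⟨s, hs, hd, hn', hbr, b, hb, hnb, hbrb⟩ := exists_pure S.two_ne S.card_ne hσ hτ hn hne hv D.mem e1 e2
  rw [← D.eq] at hnb hbrb
  refine ⟨D.mem, s, b, hd, hs, hn', hbr,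
    (sameClass_of_brackets S.two_ne S.card_ne D.mem hs hτ hb hn' (hbr.trans D.eq.symm) hnb hbrb).2,
    fun a ha hna hbra => ?_⟩
  exact (sameClass_of_brackets S.two_ne S.card_ne D.mem hs ha hb hna (hbra.trans D.eq.symm) hnb hbrb).1

/-- **Minimal elements of different classes have commuting root subgroups.** -/
theorem bracket_eq_zero_of_not_sameClass (S : Setting p k) (hO : Cfsg.pCore p ↥H = ⊥)
    (hσ : σ ∈ minimalQuadraticElements H) (hτ : τ ∈ minimalQuadraticElements H)
    (hnot : ¬ SameClass H (sameActionSubgroup H σ) (sameActionSubgroup H τ)) :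
    bracket (alpha σ) (alpha τ) = 0 := by
  by_contra hne
  have hn := nil_of_not_sameClass S.two_ne S.card_ne hσ hτ hnot
  have hne' : bracket (alpha τ) (alpha σ) ≠ 0 := by rw [bracket_swap, neg_ne_zero]; exact hne
  obtain ⟨hρ, s, b, hd, hs, hns, hbs, hsρ, huniv⟩ := pure_data S hO hσ hτ hn hne
  obtain ⟨hρ', t, c, hd', ht, hnt, hbt, htρ, huniv'⟩ := pure_data S hO hτ hσ hn.symm hne'
  have D := commData hσ hτ hn hne
  have D' := commData hτ hσ hn.symm hne'
  have hρρ : alpha (commElt τ σ) = -alpha (commElt σ τ) := by rw [D'.eq, D.eq, bracket_swap]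
  have hEρ : sameActionSubgroup H (commElt τ σ) = sameActionSubgroup H (commElt σ τ) := by
    refine (sameAction_eq_of_mem hρ ((mem_sameAction_iff hρ).2 ?_) (ne_one_of_min hρ')).2
    rw [hρρ]; exact neg_mem (alpha_mem_actSpace hρ)
  set e := bracket (alpha σ) (alpha τ) with he
  -- `d` is killed by `s` on both sides, and symmetrically
  have kill : ∀ {u : M →ₗ[k] M}, u * e = 0 → e * u = 0 → ∀ {d : M →ₗ[k] M},
      LinearMap.range d ≤ LinearMap.range e → LinearMap.ker e ≤ LinearMap.ker d → u * d = 0 ∧ d * u = 0 := by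
    intro u hu hu' d hdr hdk
    refine ⟨LinearMap.ext fun m => ?_, LinearMap.ext fun m => ?_⟩
    · obtain ⟨z, hz⟩ := hdr (LinearMap.mem_range_self d m)
      rw [Module.End.mul_apply, ← hz, ← Module.End.mul_apply, hu, LinearMap.zero_apply, LinearMap.zero_apply]
    · rw [Module.End.mul_apply, LinearMap.zero_apply]
      exact LinearMap.mem_ker.1 (hdk (show u m ∈ LinearMap.ker e by
        rw [LinearMap.mem_ker, ← Module.End.mul_apply, hu', LinearMap.zero_apply]))
  obtain ⟨hdr, hdk, -⟩ := hd
  obtain ⟨hdr', hdk', -⟩ := hd'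
  rw [D.eq] at hdr hdk
  rw [hρρ, LinearMap.range_neg, D.eq] at hdr'
  rw [hρρ, LinearMap.ker_neg, D.eq] at hdk'
  have hs0 : alpha s * e = 0 ∧ e * alpha s = 0 := by
    rw [← hbs]; exact bracket_left (sq_of_min hs) hns
  have ht0 : alpha t * e = 0 ∧ e * alpha t = 0 := by
    have h := bracket_left (sq_of_min ht) hnt
    rw [hbt, bracket_swap, mul_neg, neg_mul, neg_eq_zero, neg_eq_zero] at h
    exact h
  obtain ⟨k1, k2⟩ := kill hs0.1 hs0.2 hdr' hdk'
  have hst : bracket (alpha s) (alpha t) = e := by
    rw [← hbs]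
    simp only [bracket, mul_sub, sub_mul] at k1 k2 ⊢
    rw [← sub_eq_zero.1 k1, ← sub_eq_zero.1 k2]
  have hnst : IsNilPair (alpha s) (alpha t) := by
    have e1 : alpha s * alpha t = alpha s * alpha τ := by
      rw [mul_sub] at k1; exact (sub_eq_zero.1 k1).symm
    have e2 : alpha t * alpha s = alpha τ * alpha s := by
      rw [sub_mul] at k2; exact (sub_eq_zero.1 k2).symm
    refine ⟨by rw [e1]; exact hns.1, ?_⟩
    have e3 : alpha t * alpha s * alpha t = alpha τ * (alpha s * alpha t) := by rw [e2, mul_assoc]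
    rw [e3, e1, ← mul_assoc]; exact hns.2
  have hτb := huniv τ hτ hns hbs
  have htb := huniv t ht hnst hst
  have hts : bracket (alpha t) (alpha s) = bracket (alpha τ) (alpha σ) := by
    rw [bracket_swap, hst, bracket_swap (alpha σ)]
  have hσc := huniv' σ hσ hnt hbt
  have hsc := huniv' s hs hnst.symm hts
  rw [hEρ] at htρ
  exact hnot (((hσc.trans hsc.symm).trans hsρ).trans ((hτb.trans htb.symm).trans htρ).symm)

theorem commute_of_not_sameClass (S : Setting p k) (hO : Cfsg.pCore p ↥H = ⊥)
    (hσ : σ ∈ minimalQuadraticElements H) (hτ : τ ∈ minimalQuadraticElements H)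
    (hnot : ¬ SameClass H (sameActionSubgroup H σ) (sameActionSubgroup H τ))
    {u v : LinearMap.GeneralLinearGroup k M} (hu : u ∈ sameActionSubgroup H σ)
    (hv : v ∈ sameActionSubgroup H τ) : u * v = v * u := by
  by_cases hu1 : u = 1
  · subst hu1; simp
  by_cases hv1 : v = 1
  · subst hv1; simp
  obtain ⟨hu', hEu⟩ := sameAction_eq_of_mem hσ hu hu1
  obtain ⟨hv', hEv⟩ := sameAction_eq_of_mem hτ hv hv1
  exact comm_of_bracket_zero (bracket_eq_zero_of_not_sameClass S hO hu' hv' (by rwa [hEu, hEv]))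

end CfsgLib.CoprimeQuad
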