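import Cfsg.Agent.Lib.CFun.CoprimeQuad.Frame

/-!
# A decomposition fixed by coprime operators
-/

set_option autoImplicit false
set_option linter.style.haveILetI false

namespace CfsgLib.CoprimeQuad

open Cfsg CfsgLib.QuadPair Polynomial
open scoped MatrixGroups

variable {k : Type*} [Field k] {M : Type*} [AddCommGroup M] [Module k M] [FiniteDimensional k M]
variable {H : Subgroup (LinearMap.GeneralLinearGroup k M)} {σ v : LinearMap.GeneralLinearGroup k M}

theorem diagSL_congr {s t : k} (hs : s ≠ 0) (h : s = t) : diagSL s hs = diagSL t (h ▸ hs) := by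
  subst h; rfl

theorem diagSL_mul (s t : k) (hs : s ≠ 0) (ht : t ≠ 0) :
    diagSL s hs * diagSL t ht = diagSL (s * t) (mul_ne_zero hs ht) := by
  refine Subtype.ext ?_
  show !![s, 0; 0, s⁻¹] * !![t, 0; 0, t⁻¹] = !![s * t, 0; 0, (s * t)⁻¹]
  simp [Matrix.mul_fin_two, mul_comm]

theorem diagSL_one : diagSL (1 : k) one_ne_zero = 1 := by
  refine ext_two ?_ ?_ ?_ ?_ <;> simp [diagSL]

theorem diagSL_pow (s : k) (hs : s ≠ 0) :
    ∀ n : ℕ, diagSL s hs ^ n = diagSL (s ^ n) (pow_ne_zero n hs)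
  | 0 => by simp only [pow_zero]; exact diagSL_one.symm
  | n + 1 => by rw [pow_succ, diagSL_pow s hs n, diagSL_mul]; exact diagSL_congr _ (pow_succ s n).symm

/-- The root spaces of an opposite pair form a frame. -/
theorem isFrame_of_opposite (h2 : (2 : k) ≠ 0) (h3 : Nat.card k ≠ 3) (hσ : σ ∈ minimalQuadraticElements H)
    (hv : v ∈ minimalQuadraticElements H) (e1 : alpha σ * alpha v * alpha σ = alpha σ)
    (e2 : alpha v * alpha σ * alpha v = alpha v) :
    IsFrame H (actSpace H σ (sq_of_min hσ)) (actSpace H v (sq_of_min hv)) (alpha σ * alpha v)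
      (alpha v * alpha σ) := by
  have hchar : ∀ {σ v : LinearMap.GeneralLinearGroup k M} (hσ : σ ∈ minimalQuadraticElements H),
      alpha σ * alpha v * alpha σ = alpha σ → ∀ x, x ∈ actSpace H σ (sq_of_min hσ) ↔
        alpha σ * alpha v * x = x ∧ x * (alpha v * alpha σ) = x ∧ HasFamily H x := by
    intro σ v hσ e x
    constructor
    · rintro ⟨hr, hk, hf⟩
      refine ⟨LinearMap.ext fun m => ?_, LinearMap.ext fun m => ?_, hf⟩
      · obtain ⟨z, hz⟩ := hr (LinearMap.mem_range_self x m)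
        rw [Module.End.mul_apply, ← hz, ← Module.End.mul_apply, e]
      · have : m - (alpha v * alpha σ) m ∈ LinearMap.ker x := hk (by
          rw [LinearMap.mem_ker, map_sub, ← Module.End.mul_apply (alpha σ), ← mul_assoc, e, sub_self])
        rw [LinearMap.mem_ker, map_sub, sub_eq_zero] at this
        rw [Module.End.mul_apply]; exact this.symm
    · rintro ⟨ha, hb, hf⟩
      refine ⟨?_, fun m hm => ?_, hf⟩
      · rintro _ ⟨m, rfl⟩
        exact ⟨alpha v (x m), by rw [← Module.End.mul_apply, ← Module.End.mul_apply, ha]⟩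
      · rw [LinearMap.mem_ker, ← hb, Module.End.mul_apply, Module.End.mul_apply, LinearMap.mem_ker.1 hm,
          map_zero, map_zero]
  have hinv : ∀ {σ v : LinearMap.GeneralLinearGroup k M} (hσ : σ ∈ minimalQuadraticElements H)
      (hv : v ∈ minimalQuadraticElements H), alpha σ * alpha v * alpha σ = alpha σ →
      alpha v * alpha σ * alpha v = alpha v → ∀ x ∈ actSpace H σ (sq_of_min hσ), x ≠ 0 →
      ∃ y ∈ actSpace H v (sq_of_min hv), x * y = alpha σ * alpha v ∧ y * x = alpha v * alpha σ := by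
    intro σ v hσ hv e e' x hx hx0
    rcases dichotomy_root h2 h3 hσ hv with hn | ⟨f, hf⟩
    · exact absurd (e.symm.trans hn.1) (alpha_ne_zero hσ)
    set u := oneAdd x (actSpace_sq hx) with hu
    have hau : alpha u = x := alpha_oneAdd _
    have huE := oneAdd_mem_sameAction hσ hx
    have hu1 : u ≠ 1 := fun h => hx0 (by rw [← hau, h, alpha_one])
    have hu' := (sameAction_eq_of_mem hσ huE hu1).1
    obtain ⟨g, hg⟩ := hf.of_class h2 h3 hσ hv huE (self_mem_sameAction hv) hu1 (ne_one_of_min hv)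
    obtain ⟨w, hw, k1, k2, hw1⟩ := hg.exists_opposite h2 h3 hu' hv
    rw [hau] at k1 k2
    have cu := mem_class_of_actSpace hσ (by rw [hau]; exact hx) (by rw [hau]; exact hx0)
    have hwy := (mem_sameAction_iff hv).1 hw
    have cw := mem_class_of_actSpace hv hwy fun h => hw1 (eq_one_of_alpha h)
    have hru : LinearMap.range x = LinearMap.range (alpha σ) := by rw [← hau]; exact cu.2.2
    have hrw : LinearMap.range (alpha w) = LinearMap.range (alpha v) := cw.2.2
    refine ⟨alpha w, hwy, ?_, ?_⟩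
    · have h1 : x * alpha w * alpha σ = alpha σ := LinearMap.ext fun m => by
        obtain ⟨z, hz⟩ := hru.ge (LinearMap.mem_range_self (alpha σ) m)
        rw [Module.End.mul_apply, ← hz, ← Module.End.mul_apply, k1]
      have h4 : alpha w * (alpha σ * alpha v) = alpha w := ((hchar hv e' _).1 hwy).2.1
      calc x * alpha w = x * (alpha w * (alpha σ * alpha v)) := by rw [h4]
        _ = x * alpha w * alpha σ * alpha v := by simp only [mul_assoc]
        _ = _ := by rw [h1]
    · have h1 : alpha w * x * alpha v = alpha v := LinearMap.ext fun m => by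
        obtain ⟨z, hz⟩ := hrw.ge (LinearMap.mem_range_self (alpha v) m)
        rw [Module.End.mul_apply, ← hz, ← Module.End.mul_apply, k2]
      have h4 : x * (alpha v * alpha σ) = x := ((hchar hσ e _).1 hx).2.1
      calc alpha w * x = alpha w * (x * (alpha v * alpha σ)) := by rw [h4]
        _ = alpha w * x * alpha v * alpha σ := by simp only [mul_assoc]
        _ = _ := by rw [h1]
  refine ⟨by rw [← mul_assoc, e1], by rw [← mul_assoc, e2], ?_, ?_, hchar hσ e1, hchar hv e2,
    hinv hσ hv e1 e2, fun y hy hy0 => ?_⟩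
  · rw [mul_assoc, ← mul_assoc (alpha v), sq_of_min hv, zero_mul, mul_zero]
  · rw [mul_assoc, ← mul_assoc (alpha σ), sq_of_min hσ, zero_mul, mul_zero]
  · obtain ⟨x, hx, a, b⟩ := hinv hv hσ e2 e1 y hy hy0
    exact ⟨x, hx, b, a⟩

/-! ### The flag of a root subgroup -/

/-- `g` acts as `c`, `1`, `c⁻¹` on the three factors of the flag of `σ`. -/
def HasChar (σ g : LinearMap.GeneralLinearGroup k M) (c : k) : Prop :=
  (∀ z ∈ LinearMap.range (alpha σ), (g : M →ₗ[k] M) z = c • z) ∧
  (∀ z ∈ LinearMap.ker (alpha σ), (g : M →ₗ[k] M) z - z ∈ LinearMap.range (alpha σ)) ∧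
  ∀ z, (g : M →ₗ[k] M) z - c⁻¹ • z ∈ LinearMap.ker (alpha σ)

omit [FiniteDimensional k M] in
theorem range_le_ker (hσ : alpha σ * alpha σ = 0) : LinearMap.range (alpha σ) ≤ LinearMap.ker (alpha σ) := by
  rintro _ ⟨m, rfl⟩
  rw [LinearMap.mem_ker, ← Module.End.mul_apply, hσ, LinearMap.zero_apply]

omit [FiniteDimensional k M] in
theorem HasChar.one : HasChar σ 1 1 := by
  refine ⟨fun z _ => by simp, fun z _ => by simp, fun z => by simp⟩

omit [FiniteDimensional k M] in
theorem HasChar.mul (hσ : alpha σ * alpha σ = 0) {g g' : LinearMap.GeneralLinearGroup k M} {c c' : k}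
    (hg : HasChar σ g c) (hg' : HasChar σ g' c') : HasChar σ (g * g') (c * c') := by
  refine ⟨fun z hz => ?_, fun z hz => ?_, fun z => ?_⟩ <;> rw [Units.val_mul, Module.End.mul_apply]
  · rw [hg'.1 z hz, map_smul, hg.1 z hz, smul_smul, mul_comm]
  · have h1 := hg'.2.1 z hz
    have h3 : (g : M →ₗ[k] M) ((g' : M →ₗ[k] M) z) - z =
        (g : M →ₗ[k] M) ((g' : M →ₗ[k] M) z - z) + ((g : M →ₗ[k] M) z - z) := by rw [map_sub]; abel
    rw [h3, hg.1 _ h1]
    exact add_mem (Submodule.smul_mem _ _ h1) (hg.2.1 z hz)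
  · have h1 := hg'.2.2 z
    have h3 : (g : M →ₗ[k] M) ((g' : M →ₗ[k] M) z) - (c * c')⁻¹ • z =
        ((g : M →ₗ[k] M) ((g' : M →ₗ[k] M) z - c'⁻¹ • z) - ((g' : M →ₗ[k] M) z - c'⁻¹ • z)) +
          ((g' : M →ₗ[k] M) z - c'⁻¹ • z) + c'⁻¹ • ((g : M →ₗ[k] M) z - c⁻¹ • z) := by
      rw [map_sub (g : M →ₗ[k] M), map_smul, smul_sub, smul_smul, mul_inv, mul_comm c⁻¹]; abel
    rw [h3]
    exact add_mem (add_mem (range_le_ker hσ (hg.2.1 _ h1)) h1) (Submodule.smul_mem _ _ (hg.2.2 z))

omit [FiniteDimensional k M] in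
theorem HasChar.pow (hσ : alpha σ * alpha σ = 0) {g : LinearMap.GeneralLinearGroup k M} {c : k}
    (hg : HasChar σ g c) : ∀ n : ℕ, HasChar σ (g ^ n) (c ^ n)
  | 0 => by rw [pow_zero, pow_zero]; exact HasChar.one
  | n + 1 => by rw [pow_succ, pow_succ]; exact (hg.pow hσ n).mul hσ hg

omit [FiniteDimensional k M] in
theorem HasChar.unique (hσ : alpha σ ≠ 0) {g : LinearMap.GeneralLinearGroup k M} {c c' : k}
    (hg : HasChar σ g c) (hg' : HasChar σ g c') : c = c' := by
  obtain ⟨m, hm⟩ : ∃ m, alpha σ m ≠ 0 := by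
    by_contra h
    push Not at h
    exact hσ (LinearMap.ext h)
  exact smul_left_injective k hm ((hg.1 _ ⟨m, rfl⟩).symm.trans (hg'.1 _ ⟨m, rfl⟩))

omit [FiniteDimensional k M] in
theorem HasChar.cube {g : LinearMap.GeneralLinearGroup k M} (hg : HasChar σ g 1) :
    alpha g * alpha g * alpha g = 0 := by
  have e : ∀ z, alpha g z = (g : M →ₗ[k] M) z - z := fun z => rfl
  refine LinearMap.ext fun m => ?_
  rw [Module.End.mul_apply, Module.End.mul_apply, LinearMap.zero_apply]
  have h1 : alpha g m ∈ LinearMap.ker (alpha σ) := by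
    have := hg.2.2 m
    rwa [inv_one, one_smul, ← e] at this
  have h2 : alpha g (alpha g m) ∈ LinearMap.range (alpha σ) := by
    have := hg.2.1 _ h1
    rwa [← e] at this
  have h3 := hg.1 _ h2
  rw [one_smul] at h3
  rw [e (alpha g (alpha g m)), h3, sub_self]

theorem hasChar_units (hσ : alpha σ * alpha σ = 0) {d : M →ₗ[k] M} (hd : d * d = 0)
    (h1 : alpha σ * d * alpha σ = alpha σ) (h2 : d * alpha σ * d = d) (c : k) (hc : c ≠ 0) :
    HasChar σ (unitsHom hσ hd h1 h2 (diagSL c hc)) c := by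
  refine ⟨?_, fun z hz => ?_, fun z => ?_⟩
  · rintro _ ⟨m, rfl⟩
    rw [unitsHom_diag_val]
    have e1 : (alpha σ * d) (alpha σ m) = alpha σ m := by rw [← Module.End.mul_apply, h1]
    have e2 : (d * alpha σ) (alpha σ m) = 0 := by
      rw [← Module.End.mul_apply, mul_assoc, hσ, mul_zero, LinearMap.zero_apply]
    simp only [LinearMap.add_apply, LinearMap.smul_apply, LinearMap.sub_apply, Module.End.one_apply, e1, e2,
      smul_zero, sub_self, add_zero]
  · rw [LinearMap.mem_ker] at hz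
    rw [unitsHom_diag_val]
    refine ⟨(c - 1) • d z, ?_⟩
    simp only [LinearMap.add_apply, LinearMap.smul_apply, LinearMap.sub_apply, Module.End.one_apply,
      Module.End.mul_apply, hz, map_zero, smul_zero, map_smul]
    module
  · rw [LinearMap.mem_ker, unitsHom_diag_val, map_sub, map_smul, ← Module.End.mul_apply (alpha σ)]
    have e : alpha σ * (c • (alpha σ * d) + c⁻¹ • (d * alpha σ) + (1 - alpha σ * d - d * alpha σ)) =
        c⁻¹ • alpha σ := by
      simp only [mul_add, mul_sub, mul_smul_comm, mul_one, ← mul_assoc, hσ, h1, zero_mul, smul_zero]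
      abel
    rw [e, LinearMap.smul_apply, sub_self]

variable [Finite k] {p : ℕ}

/-- A quadratic element makes `H` of even order. -/
theorem two_dvd_card (S : Setting p k) (hO : Cfsg.pCore p ↥H = ⊥) (hσ : σ ∈ minimalQuadraticElements H) :
    2 ∣ Nat.card ↥H := by
  haveI := finite_gl (k := k) (M := M)
  obtain ⟨v, hv, e1, e2⟩ := exists_opposite_of_core S hO hσ
  set z : SL(2, k) := diagSL (-1) (by simp) with hz
  have hmem : unitsHom (sq_of_min hσ) (sq_of_min hv) e1 e2 z ∈ H :=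
    unitsHom_mem _ _ _ _ (fun c => hσ.1.2.2 (oneAdd_mem_scalarFamily (sq_of_min hσ) c))
      (fun c => hv.1.2.2 (oneAdd_mem_scalarFamily (sq_of_min hv) c)) z
  have hz2 : z ^ 2 = 1 := by
    rw [hz, diagSL_pow, diagSL_congr _ neg_one_sq]; exact diagSL_one
  have hz1 : z ≠ 1 := fun h => by
    have := congrArg (fun g : SL(2, k) => (g : Matrix (Fin 2) (Fin 2) k) 0 0) h
    simp [hz, diagSL] at this
    exact S.two_ne (by linear_combination -this)
  have hne : (⟨_, hmem⟩ : H) ≠ 1 := fun h => hz1 (unitsHom_injective _ _ _ _ (alpha_ne_zero hσ)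
    ((congrArg Subtype.val h).trans (map_one (unitsHom (sq_of_min hσ) (sq_of_min hv) e1 e2)).symm))
  haveI : Fact (Nat.Prime 2) := ⟨Nat.prime_two⟩
  rw [← orderOf_eq_prime (x := (⟨_, hmem⟩ : H)) (p := 2) (Subtype.ext (by
    show (unitsHom _ _ _ _ z) ^ 2 = 1
    rw [← map_pow, hz2, map_one])) hne]
  exact orderOf_dvd_natCard _

/-- **Coprime solvable operators fixing a class fix one of its decompositions.** -/
theorem exists_fixed_frame (S : Setting p k) (hO : Cfsg.pCore p ↥H = ⊥)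
    {σ₀ : LinearMap.GeneralLinearGroup k M} (hσ₀ : σ₀ ∈ minimalQuadraticElements H)
    {A : Subgroup (LinearMap.GeneralLinearGroup k M)}
    (hA : A ≤ Subgroup.normalizer (H : Set (LinearMap.GeneralLinearGroup k M)))
    (hcop : (Nat.card A).Coprime (Nat.card H)) (hsolv : Group.IsSolvable A)
    (hclass : ∀ a ∈ A, SameClass H (sameActionSubgroup H σ₀) (conjBy (sameActionSubgroup H σ₀) a)) :
    ∃ σ v, ∃ (hσ : σ ∈ minimalQuadraticElements H) (hv : v ∈ minimalQuadraticElements H),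
      SameClass H (sameActionSubgroup H σ₀) (sameActionSubgroup H σ) ∧
      SameClass H (sameActionSubgroup H σ₀) (sameActionSubgroup H v) ∧
      IsFrame H (actSpace H σ (sq_of_min hσ)) (actSpace H v (sq_of_min hv)) (alpha σ * alpha v)
        (alpha v * alpha σ) ∧
      ∀ a ∈ A, conjEnd a (alpha σ * alpha v) = alpha σ * alpha v ∧
        conjEnd a (alpha v * alpha σ) = alpha v * alpha σ := by
  classical
  haveI := finite_gl (k := k) (M := M)
  haveI : Fact p.Prime := ⟨S.prime⟩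
  haveI := S.char
  obtain ⟨h₀, hh₀, hfixE⟩ := exists_fixed_in_orbit hA hcop hsolv
    (fun g E => conjBy E g) conjBy_one (fun g h E => (conjBy_conjBy E h g).symm)
    (sameActionSubgroup H σ₀) (fun a ha => hclass a ha)
  have hh₀N := Subgroup.le_normalizer (H := H) hh₀
  set σ := h₀ * σ₀ * h₀⁻¹ with hσdef
  have hσ : σ ∈ minimalQuadraticElements H := conj_mem_minimal' hh₀N hσ₀
  rw [conjBy_sameAction' hh₀N, ← hσdef] at hfixE
  have hσclass : SameClass H (sameActionSubgroup H σ₀) (sameActionSubgroup H σ) :=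
    ⟨h₀, hh₀, (conjBy_sameAction' hh₀N).symm⟩
  have hsq := sq_of_min hσ
  set I := LinearMap.range (alpha σ) with hI
  set K := LinearMap.ker (alpha σ) with hK
  have hIK : ∀ a ∈ A, (∀ z ∈ I, (a : M →ₗ[k] M) z ∈ I) ∧ ∀ z ∈ K, (a : M →ₗ[k] M) z ∈ K := by
    intro a ha
    have hm : a * σ * a⁻¹ ∈ sameActionSubgroup H σ := hfixE a ha ▸ ⟨σ, self_mem_sameAction hσ, rfl⟩
    have hm' := conj_mem_minimal' (hA ha) hσ
    have hc := mem_class_of_actSpace hσ ((mem_sameAction_iff hσ).1 hm) (alpha_ne_zero hm')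
    have hr : LinearMap.range (alpha (a * σ * a⁻¹)) = I := hc.2.2
    have hk : LinearMap.ker (alpha (a * σ * a⁻¹)) = K := hc.2.1
    refine ⟨fun z hz => ?_, fun z hz => ?_⟩
    · rw [← hr, range_alpha_conj]; exact ⟨z, hz, rfl⟩
    · rw [← hk, mem_ker_alpha_conj, inv_apply_apply]; exact hz
  have hconjchar : ∀ a ∈ A, ∀ g c, HasChar σ g c → HasChar σ (a * g * a⁻¹) c := by
    intro a ha g c hg
    have hai := hIK a⁻¹ (inv_mem ha)
    have e : ∀ z, ((a * g * a⁻¹ : LinearMap.GeneralLinearGroup k M) : M →ₗ[k] M) z =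
        (a : M →ₗ[k] M) ((g : M →ₗ[k] M) (((a⁻¹ : LinearMap.GeneralLinearGroup k M) : M →ₗ[k] M) z)) :=
      fun z => by rw [Units.val_mul, Units.val_mul]; rfl
    refine ⟨fun z hz => ?_, fun z hz => ?_, fun z => ?_⟩ <;> rw [e]
    · rw [hg.1 _ (hai.1 z hz), map_smul, apply_inv_apply]
    · have h5 := (hIK a ha).1 _ (hg.2.1 _ (hai.2 z hz))
      rwa [map_sub, apply_inv_apply] at h5
    · have h5 := (hIK a ha).2 _ (hg.2.2 (((a⁻¹ : LinearMap.GeneralLinearGroup k M) : M →ₗ[k] M) z))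
      rwa [map_sub, map_smul, apply_inv_apply] at h5
  obtain ⟨v, hv, e1, e2⟩ := exists_opposite_of_core S hO hσ
  let P : Subgroup (LinearMap.GeneralLinearGroup k M) :=
    { carrier := {g | g ∈ H ∧ HasChar σ g 1}
      one_mem' := ⟨one_mem H, HasChar.one⟩
      mul_mem' := fun {g g'} hg hg' => ⟨mul_mem hg.1 hg'.1, by simpa using hg.2.mul hsq hg'.2⟩
      inv_mem' := fun {g} hg => ⟨inv_mem hg.1, by
        have hord := orderOf_pos g
        have e : g⁻¹ = g ^ (orderOf g - 1) := inv_eq_of_mul_eq_one_right (by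
          rw [← pow_succ', Nat.sub_add_cancel hord, pow_orderOf_eq_one])
        rw [e]; simpa using hg.2.pow hsq (orderOf g - 1)⟩ }
  have hp3 : 3 ≤ p := by have := S.five_le; omega
  have hPp : ∀ g ∈ P, g ^ p = 1 := fun g hg => pow_char_eq_one_of_cube hp3 hg.2.cube
  have hPG : IsPGroup p P := fun g => ⟨1, Subtype.ext (by
    rw [SubgroupClass.coe_pow, pow_one, hPp g g.2]; rfl)⟩
  have hAP : A ≤ Subgroup.normalizer (P : Set (LinearMap.GeneralLinearGroup k M)) := by
    intro a ha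
    rw [Subgroup.mem_normalizer_iff]
    have key : ∀ a ∈ A, ∀ g ∈ P, a * g * a⁻¹ ∈ P := fun a ha g hg =>
      ⟨(Subgroup.mem_normalizer_iff.1 (hA ha) g).1 hg.1, hconjchar a ha g 1 hg.2⟩
    refine fun g => ⟨key a ha g, fun hg => ?_⟩
    have := key a⁻¹ (inv_mem ha) _ hg
    simpa [mul_assoc] using this
  -- the torus element
  set c : k := 2 with hcdef
  have hc : c ≠ 0 := S.two_ne
  have hcp : c ^ (p - 1) = 1 := by
    have h1 : c ^ p = c := by
      haveI : ExpChar k p := ExpChar.prime S.prime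
      rw [hcdef, ← Nat.cast_ofNat, ← frobenius_def, map_natCast]
    have h4 : c ^ (p - 1) * c = 1 * c := by
      rw [← pow_succ, Nat.sub_add_cancel S.prime.pos, h1, one_mul]
    exact mul_right_cancel₀ hc h4
  have hcpow : c ^ p = c := by
    conv_lhs => rw [← Nat.sub_add_cancel S.prime.pos, pow_succ, hcp, one_mul]
  have hc1 : c - 1 ≠ 0 := by
    rw [hcdef, show (2 : k) - 1 = 1 by ring]; exact one_ne_zero
  have h3k : (3 : k) ≠ 0 := fun h => by
    have h' : ((3 : ℕ) : k) = 0 := by exact_mod_cast h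
    have := Nat.le_of_dvd (by omega) ((CharP.cast_eq_zero_iff k p 3).1 h')
    have := S.five_le
    omega
  have hcc : c - c⁻¹ ≠ 0 := by
    intro h
    rw [sub_eq_zero] at h
    have : c * c = 1 := by
      calc c * c = c * c⁻¹ := by rw [← h]
        _ = 1 := mul_inv_cancel₀ hc
    refine h3k ?_
    rw [hcdef] at this
    linear_combination this
  have hfam1 : ∀ t : k, oneAdd (t • alpha σ) (smul_sq hsq t) ∈ H :=
    fun t => hσ.1.2.2 (oneAdd_mem_scalarFamily hsq t)
  have hfam2 : ∀ t : k, oneAdd (t • alpha v) (smul_sq (sq_of_min hv) t) ∈ H :=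
    fun t => hv.1.2.2 (oneAdd_mem_scalarFamily (sq_of_min hv) t)
  set T := unitsHom hsq (sq_of_min hv) e1 e2 with hT
  have hTH : ∀ s, T s ∈ H := unitsHom_mem _ _ _ _ hfam1 hfam2
  have hTc : ∀ (t : k) (ht : t ≠ 0), HasChar σ (T (diagSL t ht)) t := fun t ht =>
    hasChar_units hsq (sq_of_min hv) e1 e2 t ht
  set h := T (diagSL c hc) with hhdef
  have hhinv : HasChar σ h⁻¹ c⁻¹ := by
    rw [hhdef, ← map_inv, diagSL_inv]; exact hTc _ _
  have hhpow : ∀ n : ℕ, h ^ n = T (diagSL (c ^ n) (pow_ne_zero n hc)) := fun n => by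
    rw [hhdef, ← map_pow, diagSL_pow]
  have hPchar : ∀ {x}, x ∈ P → HasChar σ x 1 := fun hx => hx.2
  have hPmem : ∀ {g}, g ∈ H → ∀ {t : k}, HasChar σ g t → t = 1 → g ∈ P := fun hg _ hc' ht => ⟨hg, ht ▸ hc'⟩
  have hhN : ∀ g ∈ H, ∀ t : k, t ≠ 0 → HasChar σ g t → HasChar σ g⁻¹ t⁻¹ →
      g ∈ Subgroup.normalizer (P : Set (LinearMap.GeneralLinearGroup k M)) := by
    intro g hg t ht hgc hgi
    rw [Subgroup.mem_normalizer_iff]
    intro x
    constructor
    · intro hx
      exact hPmem (mul_mem (mul_mem hg hx.1) (inv_mem hg)) ((hgc.mul hsq hx.2).mul hsq hgi) (by field_simp)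
    · intro hx
      have := hPmem (mul_mem (mul_mem (inv_mem hg) hx.1) hg) ((hgi.mul hsq hx.2).mul hsq hgc) (by field_simp)
      simpa [mul_assoc] using this
  have hhnorm := hhN h (hTH _) c hc (hTc c hc) hhinv
  have hcopP : (Nat.card A).Coprime (Nat.card P) :=
    hcop.coprime_dvd_right (Subgroup.card_dvd_of_le fun x hx => hx.1)
  obtain ⟨n, hn, hnfix⟩ := CfsgLib.Coprime.exists_fixed_in_coset hAP hcopP (Or.inl hsolv) hhnorm
    (fun a ha => hPmem (mul_mem ((Subgroup.mem_normalizer_iff.1 (hA ha) h).1 (hTH _)) (inv_mem (hTH _)))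
      ((hconjchar a ha h c (hTc c hc)).mul hsq hhinv) (mul_inv_cancel₀ hc))
  set g := (h * n) ^ p with hgdef
  have hgH : g ∈ H := pow_mem (mul_mem (hTH _) hn.1) p
  have hgc : HasChar σ g c := by
    have := ((hTc c hc).mul hsq (hPchar hn)).pow hsq p
    rwa [mul_one, hcpow] at this
  have hgord : g ^ (p - 1) = 1 := by
    have h5 : (h * n) ^ (p - 1) ∈ P := hPmem (pow_mem (mul_mem (hTH _) hn.1) _)
      (((hTc c hc).mul hsq (hPchar hn)).pow hsq (p - 1)) (by rw [mul_one, hcp])
    rw [hgdef, ← pow_mul, mul_comm, pow_mul]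
    exact hPp _ h5
  have hhord : h ^ (p - 1) = 1 := by
    rw [hhpow, diagSL_congr _ hcp, diagSL_one, map_one]
  have hone : ∀ j : ℕ, c ^ j = 1 → h ^ j = 1 := fun j hj => by
    rw [hhpow, diagSL_congr _ hj, diagSL_one, map_one]
  have hordeq : orderOf g = orderOf h := by
    rw [orderOf_eq_orderOf_iff]
    intro j
    constructor
    · intro hj
      refine hone j ((hgc.pow hsq j).unique (alpha_ne_zero hσ) ?_)
      rw [hj]; exact HasChar.one
    · intro hj
      have hcj : c ^ j = 1 := ((hTc c hc).pow hsq j).unique (alpha_ne_zero hσ) (by rw [hj]; exact HasChar.one)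
      have h5 : g ^ j ∈ P := hPmem (pow_mem hgH j) (hgc.pow hsq j) hcj
      refine orderOf_eq_one_iff.1 (Nat.eq_one_of_dvd_coprimes ?_ (orderOf_dvd_of_pow_eq_one (hPp _ h5))
        (orderOf_dvd_of_pow_eq_one (n := p - 1) ?_))
      · exact (Nat.coprime_self_sub_right S.prime.pos).2 (Nat.coprime_one_right p)
      · rw [← pow_mul, mul_comm, pow_mul, hgord, one_pow]
  have hgle : Subgroup.zpowers g ≤ Subgroup.zpowers h ⊔ P := by
    rw [Subgroup.zpowers_le]
    have h5 : h⁻¹ * g ∈ P := hPmem (mul_mem (inv_mem (hTH _)) hgH) (hhinv.mul hsq hgc) (inv_mul_cancel₀ hc)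
    have h6 := Subgroup.mul_mem_sup (Subgroup.mem_zpowers h) h5
    rwa [mul_inv_cancel_left] at h6
  have hhcop : (Nat.card P).Coprime (Nat.card (Subgroup.zpowers h)) := by
    obtain ⟨r, hr⟩ := IsPGroup.iff_card.1 hPG
    rw [hr, Nat.card_zpowers]
    refine Nat.Coprime.coprime_dvd_right (orderOf_dvd_of_pow_eq_one hhord) (Nat.Coprime.pow_left r ?_)
    exact (Nat.coprime_self_sub_right S.prime.pos).2 (Nat.coprime_one_right p)
  have hzc : IsMulCommutative (Subgroup.zpowers h) := ⟨⟨fun a b => Subtype.ext (by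
    obtain ⟨i, hi⟩ := a.2
    obtain ⟨j, hj⟩ := b.2
    simp only [Subgroup.coe_mul, ← hi, ← hj, ← zpow_add, add_comm])⟩⟩
  obtain ⟨x, hx, hxg⟩ := CfsgLib.Coprime.sz_conj_in (Subgroup.zpowers_le.2 hhnorm) hhcop hgle
    (by rw [Nat.card_zpowers, Nat.card_zpowers, hordeq])
    (Or.inl (CfsgLib.Coprime.isSolvable_of_isMulCommutative hzc))
  have hxg' : x * g * x⁻¹ ∈ Subgroup.zpowers h :=
    hxg ▸ CfsgLib.Coprime.conj_mem_conjBy (Subgroup.mem_zpowers g)
  obtain ⟨j, -, hj⟩ : ∃ j, j < orderOf h ∧ h ^ j = x * g * x⁻¹ := by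
    rw [mem_zpowers_iff_mem_range_orderOf, Finset.mem_image] at hxg'
    obtain ⟨j, hj, e⟩ := hxg'
    exact ⟨j, Finset.mem_range.1 hj, e⟩
  have hxc : HasChar σ (x * g * x⁻¹) c := by
    simpa using ((hPchar hx).mul hsq hgc).mul hsq (hPchar (inv_mem hx))
  have hjc : c ^ j = c := ((hTc c hc).pow hsq j).unique (alpha_ne_zero hσ) (by rw [hj]; exact hxc)
  have hgh : g = x⁻¹ * h * x := by
    have : h ^ j = h := by rw [hhpow, diagSL_congr _ hjc]
    rw [this] at hj
    rw [hj]; group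
  set u := x⁻¹ with hudef
  have huP : u ∈ P := inv_mem hx
  have hua : (u : M →ₗ[k] M) * alpha σ = alpha σ := LinearMap.ext fun m => by
    rw [Module.End.mul_apply, huP.2.1 _ ⟨m, rfl⟩, one_smul]
  have hau : alpha σ * (u : M →ₗ[k] M) = alpha σ := LinearMap.ext fun m => by
    have := LinearMap.mem_ker.1 (huP.2.2.2 m)
    rw [inv_one, one_smul, map_sub, sub_eq_zero] at this
    exact this
  have hcu : conjEnd u (alpha σ) = alpha σ := conjEnd_eq_iff.2 (hua.trans hau.symm)
  set v' := u * v * u⁻¹ with hv'def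
  have hαv' : alpha v' = conjEnd u (alpha v) := alpha_conj u v
  have hv' : v' ∈ minimalQuadraticElements H := conj_mem_minimal huP.1 hv
  have e1' : alpha σ * alpha v' * alpha σ = alpha σ := by
    rw [hαv']
    nth_rewrite 1 2 3 [← hcu]
    rw [← conjEnd_mul_end, ← conjEnd_mul_end, e1]
  have e2' : alpha v' * alpha σ * alpha v' = alpha v' := by
    rw [hαv']
    nth_rewrite 1 [← hcu]
    rw [← conjEnd_mul_end, ← conjEnd_mul_end, e2]
  have hsep : SameClass H (sameActionSubgroup H σ) (sameActionSubgroup H v') := by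
    rcases dichotomy_root S.two_ne S.card_ne hσ hv' with hn' | ⟨f, hf⟩
    · exact absurd (e1'.symm.trans hn'.1) (alpha_ne_zero hσ)
    · exact sameClass_of_sep S.two_ne S.card_ne hσ hv' hf
  refine ⟨σ, v', hσ, hv', hσclass, hσclass.trans hsep,
    isFrame_of_opposite S.two_ne S.card_ne hσ hv' e1' e2', fun a ha => ?_⟩
  have hfr := isFrame_of_opposite S.two_ne S.card_ne hσ hv' e1' e2'
  set e := alpha σ * alpha v'
  set f := alpha v' * alpha σ
  have hgval : (g : M →ₗ[k] M) = 1 + (c - 1) • e + (c⁻¹ - 1) • f := by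
    have h0 : (h : M →ₗ[k] M) = 1 + (c - 1) • (alpha σ * alpha v) + (c⁻¹ - 1) • (alpha v * alpha σ) := by
      rw [hhdef, hT, unitsHom_diag_val]; module
    have h9 : (g : M →ₗ[k] M) = conjEnd u (h : M →ₗ[k] M) := by
      rw [hgh, hudef, conjEnd, inv_inv, Units.val_mul, Units.val_mul]
    have hl : ∀ (t : k) (z w : M →ₗ[k] M), conjEnd u (z + t • w) = conjEnd u z + t • conjEnd u w := fun t z w => by
      simp only [conjEnd, mul_add, add_mul, mul_smul_comm, smul_mul_assoc]
    rw [h9, h0, hl, hl, conjEnd_mul_end, conjEnd_mul_end, hcu, ← hαv']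
    rw [show conjEnd u 1 = 1 by simp [conjEnd]]
  have hga : (a : M →ₗ[k] M) * (g : M →ₗ[k] M) = (g : M →ₗ[k] M) * (a : M →ₗ[k] M) := by
    have hcen : g ∈ Subgroup.centralizer (A : Set (LinearMap.GeneralLinearGroup k M)) := pow_mem hnfix p
    have := congrArg Units.val (Subgroup.mem_centralizer_iff.1 hcen a ha)
    rwa [Units.val_mul, Units.val_mul] at this
  have hcomm : Commute (a : M →ₗ[k] M) (g : M →ₗ[k] M) := hga
  have hcomm1 : Commute (a : M →ₗ[k] M) ((g : M →ₗ[k] M) - 1) := hcomm.sub_right (Commute.one_right _)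
  have key : ∀ t : k, ((g : M →ₗ[k] M) - 1) * ((g : M →ₗ[k] M) - t • 1) =
      ((c - 1) * (c - t)) • e + ((c⁻¹ - 1) * (c⁻¹ - t)) • f := by
    intro t
    rw [hgval]
    simp only [add_sub_cancel_left, mul_add, add_mul, mul_sub, sub_mul, smul_mul_assoc, mul_smul_comm, mul_one,
      one_mul, smul_smul, hfr.ee, hfr.ff, hfr.ef, hfr.fe, smul_zero, add_zero, zero_add]
    match_scalars <;> ring
  have hcommt : ∀ t : k, Commute (a : M →ₗ[k] M) (((g : M →ₗ[k] M) - 1) * ((g : M →ₗ[k] M) - t • 1)) :=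
    fun t => hcomm1.mul_right (hcomm.sub_right ((Commute.one_right _).smul_right t))
  have hci : c⁻¹ - 1 ≠ 0 := by
    rw [sub_ne_zero, ne_eq, inv_eq_one]
    exact fun h => hc1 (sub_eq_zero.2 h)
  refine ⟨conjEnd_eq_iff.2 ?_, conjEnd_eq_iff.2 ?_⟩
  · have h5 := hcommt c⁻¹
    rw [key, sub_self, mul_zero, zero_smul, add_zero] at h5
    have h6 := h5.smul_right ((c - 1) * (c - c⁻¹))⁻¹
    rw [inv_smul_smul₀ (mul_ne_zero hc1 hcc)] at h6
    exact h6.eq
  · have h5 := hcommt c
    rw [key, sub_self, mul_zero, zero_smul, zero_add] at h5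
    have hcic : c⁻¹ - c ≠ 0 := fun h => hcc (by linear_combination -h)
    have h6 := h5.smul_right ((c⁻¹ - 1) * (c⁻¹ - c))⁻¹
    rw [inv_smul_smul₀ (mul_ne_zero hci hcic)] at h6
    exact h6.eq

end CfsgLib.CoprimeQuad
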