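import Cfsg.Agent.Lib.CFun.CoprimeQuad.Classes
import Cfsg.Agent.Lib.CFun.CoprimeQuad.Fixed
import Cfsg.Agent.Lib.FT.NoMinSimple
import Mathlib.GroupTheory.NoncommPiCoprod

/-!
# Quadratic elements and coprime operators

If a finite linear group over a field of characteristic at least five has trivial `p`-core and a
quadratic element with scalar family, then the fixed points of any coprime group of operators contain
a central quotient of `SL₂`.
-/

set_option autoImplicit false
set_option linter.style.haveILetI false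

namespace CfsgLib.CoprimeQuad

open Cfsg CfsgLib.QuadPair
open scoped MatrixGroups

variable {k : Type*} [Field k] {M : Type*} [AddCommGroup M] [Module k M] [FiniteDimensional k M] [Finite k]
variable {H A : Subgroup (LinearMap.GeneralLinearGroup k M)} {p : ℕ}

/-- A frame fixed by the stabilizer of a class gives a fixed `SL₂` in the group of that class. -/
theorem exists_class_hom (S : Setting p k) (hO : Cfsg.pCore p ↥H = ⊥)
    {σ₀ : LinearMap.GeneralLinearGroup k M} (hσ₀ : σ₀ ∈ minimalQuadraticElements H)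
    (hA : A ≤ Subgroup.normalizer (H : Set (LinearMap.GeneralLinearGroup k M)))
    (hcop : (Nat.card A).Coprime (Nat.card H))
    (hclass : ∀ a ∈ A, SameClass H (sameActionSubgroup H σ₀) (conjBy (sameActionSubgroup H σ₀) a)) :
    ∃ t : SL(2, k) →* LinearMap.GeneralLinearGroup k M, Function.Injective t ∧
      (∀ x, t x ∈ ⨆ (E) (_ : SameClass H (sameActionSubgroup H σ₀) E), E) ∧
      ∀ a ∈ A, ∀ x, a * t x * a⁻¹ = t x := by
  haveI := finite_gl (k := k) (M := M)
  have h2 := two_dvd_card S hO hσ₀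
  have hodd : Odd (Nat.card A) := by
    refine Nat.not_even_iff_odd.1 fun he => ?_
    have := Nat.eq_one_of_dvd_coprimes hcop (even_iff_two_dvd.1 he) h2
    omega
  have hsolv : Group.IsSolvable A := CfsgLib.FT.isSolvable_of_odd A hodd
  obtain ⟨σ, v, hσ, hv, cσ, cv, hfr, hfix⟩ := exists_fixed_frame S hO hσ₀ hA hcop hsolv hclass
  obtain ⟨γ, hγ, β, hβ, hγ0, hγβ, hβγ, hfixed⟩ :=
    hfr.exists_fixed_member S.two_ne (alpha_mem_actSpace hσ) (alpha_ne_zero hσ) hA hcop hsolv hodd hfix
  have h1 : γ * β * γ = γ := by rw [hγβ, (hfr.left_R hγ).1]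
  have h1' : β * γ * β = β := by rw [hβγ, (hfr.symm.left_R hβ).1]
  refine ⟨unitsHom (actSpace_sq hγ) (actSpace_sq hβ) h1 h1', unitsHom_injective _ _ _ _ hγ0,
    unitsHom_mem _ _ _ _ (fun c => ?_) (fun c => ?_), fun a ha x => ?_⟩
  · refine Subgroup.mem_iSup_of_mem _ (Subgroup.mem_iSup_of_mem cσ ((mem_sameAction_iff hσ).2 ?_))
    rw [alpha_oneAdd]
    exact Submodule.smul_mem _ c hγ
  · refine Subgroup.mem_iSup_of_mem _ (Subgroup.mem_iSup_of_mem cv ((mem_sameAction_iff hv).2 ?_))
    rw [alpha_oneAdd]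
    exact Submodule.smul_mem _ c hβ
  · refine Units.ext ?_
    rw [Units.val_mul, Units.val_mul]
    show conjEnd a (unitsFun γ β (x : Matrix (Fin 2) (Fin 2) k)) = unitsFun γ β (x : Matrix (Fin 2) (Fin 2) k)
    have ha' : Commute (a : M →ₗ[k] M) γ := conjEnd_eq_iff.1 (hfixed a ha).1
    have hb' : Commute (a : M →ₗ[k] M) β := conjEnd_eq_iff.1 (hfixed a ha).2
    exact conjEnd_eq_iff.2 ((((((Commute.one_right _).add_right ((ha'.mul_right hb').smul_right _)).add_right
      (ha'.smul_right _)).add_right (hb'.smul_right _)).add_right ((hb'.mul_right ha').smul_right _)).eq)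

/-- **Quadratic elements give `SL₂` in the fixed points of coprime operators.** -/
theorem exists_fixed_hom (S : Setting p k) (hO : Cfsg.pCore p ↥H = ⊥)
    (hq : (quadraticElements H).Nonempty)
    (hA : A ≤ Subgroup.normalizer (H : Set (LinearMap.GeneralLinearGroup k M)))
    (hcop : (Nat.card A).Coprime (Nat.card H)) :
    ∃ φ : SL(2, k) →* LinearMap.GeneralLinearGroup k M, (∀ x, φ x ∈ H) ∧
      (∀ a ∈ A, ∀ x, a * φ x = φ x * a) ∧ φ.ker ≤ Subgroup.center SL(2, k) := by
  classical
  haveI := finite_gl (k := k) (M := M)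
  obtain ⟨σ₀, hσ₀⟩ := exists_minimal hq
  set E₀ := sameActionSubgroup H σ₀
  let A₁ : Subgroup (LinearMap.GeneralLinearGroup k M) :=
    { carrier := {a | a ∈ A ∧ SameClass H E₀ (conjBy E₀ a)}
      one_mem' := ⟨one_mem A, by rw [conjBy_one]; exact SameClass.refl _⟩
      mul_mem' := fun {a b} ha hb => ⟨mul_mem ha.1 hb.1, ha.2.trans (by
        have h := hb.2.conj (hA ha.1)
        rwa [conjBy_conjBy] at h)⟩
      inv_mem' := fun {a} ha => ⟨inv_mem ha.1, by
        have h := ha.2.conj (hA (inv_mem ha.1))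
        rw [conjBy_conjBy, inv_mul_cancel, conjBy_one] at h
        exact h.symm⟩ }
  have hA₁ : A₁ ≤ A := fun a ha => ha.1
  obtain ⟨t, htinj, htmem, htfix⟩ := exists_class_hom S hO hσ₀ (hA₁.trans hA)
    (hcop.coprime_dvd_left (Subgroup.card_dvd_of_le hA₁)) (fun a ha => ha.2)
  set HΔ := ⨆ (E) (_ : SameClass H E₀ E), E
  have hΔH : HΔ ≤ H := by
    refine iSup₂_le ?_
    rintro E ⟨h, hh, rfl⟩
    rw [conjBy_sameAction hh]
    exact sameAction_le (conj_mem_minimal hh hσ₀)
  have htcomm : ∀ a ∈ A, ∀ b ∈ A, b⁻¹ * a ∉ A₁ → ∀ u ∈ HΔ, ∀ w ∈ HΔ,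
      Commute (a * u * a⁻¹) (b * w * b⁻¹) := by
    intro a ha b hb hab u hu w hw
    have key : ∀ E F, SameClass H E₀ E → SameClass H E₀ F → ∀ u ∈ E, ∀ w ∈ F,
        Commute (a * u * a⁻¹) (b * w * b⁻¹) := by
      rintro E F ⟨g, hg, rfl⟩ ⟨g', hg', rfl⟩ u hu w hw
      have hmin1 := conj_mem_minimal' (hA ha) (conj_mem_minimal hg hσ₀)
      have hmin2 := conj_mem_minimal' (hA hb) (conj_mem_minimal hg' hσ₀)
      refine commute_of_not_sameClass S hO hmin1 hmin2 (fun hsc => hab ⟨mul_mem (inv_mem hb) ha, ?_⟩) ?_ ?_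
      · rw [← conjBy_sameAction' (hA ha), ← conjBy_sameAction' (hA hb), ← conjBy_sameAction hg,
          ← conjBy_sameAction hg'] at hsc
        have h5 := ((SameClass.conj ⟨g, hg, rfl⟩ (hA ha) : SameClass H (conjBy E₀ a) _).trans hsc).trans
          (SameClass.conj ⟨g', hg', rfl⟩ (hA hb) : SameClass H (conjBy E₀ b) _).symm
        have h6 := (h5.conj (hA (inv_mem hb))).symm
        rwa [conjBy_conjBy, conjBy_conjBy, inv_mul_cancel, conjBy_one] at h6
      · rw [← conjBy_sameAction' (hA ha), ← conjBy_sameAction hg]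
        exact ⟨u, hu, rfl⟩
      · rw [← conjBy_sameAction' (hA hb), ← conjBy_sameAction hg']
        exact ⟨w, hw, rfl⟩
    have step : ∀ F, SameClass H E₀ F → ∀ u ∈ HΔ, ∀ w ∈ F, Commute (a * u * a⁻¹) (b * w * b⁻¹) := by
      intro F hF u hu w hw
      have hle : HΔ ≤ (Subgroup.centralizer {b * w * b⁻¹}).comap (MulAut.conj a).toMonoidHom :=
        iSup₂_le fun E hE x hx => Subgroup.mem_centralizer_singleton_iff.2 (key E F hE hF x hx w hw)
      exact Subgroup.mem_centralizer_singleton_iff.1 (hle hu)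
    have hle : HΔ ≤ (Subgroup.centralizer {a * u * a⁻¹}).comap (MulAut.conj b).toMonoidHom :=
      iSup₂_le fun F hF x hx => Subgroup.mem_centralizer_singleton_iff.2 (step F hF u hu x hx).symm
    exact (Subgroup.mem_centralizer_singleton_iff.1 (hle hw)).symm
  let ι := ↥A ⧸ A₁.subgroupOf A
  haveI : Fintype ι := Fintype.ofFinite ι
  let T : ι → SL(2, k) →* LinearMap.GeneralLinearGroup k M := fun i =>
    (MulAut.conj ((i.out : A) : LinearMap.GeneralLinearGroup k M)).toMonoidHom.comp t
  have hT : Pairwise fun i j => ∀ x y, Commute (T i x) (T j y) := by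
    intro i j hij x y
    refine htcomm _ i.out.2 _ j.out.2 (fun hmem => hij ?_) _ (htmem x) _ (htmem y)
    have hq : (QuotientGroup.mk j.out : ι) = QuotientGroup.mk i.out := QuotientGroup.eq.2 hmem
    rw [QuotientGroup.out_eq', QuotientGroup.out_eq'] at hq
    exact hq.symm
  set Ψ := MonoidHom.noncommPiCoprod T hT with hΨ
  let diag : SL(2, k) →* (ι → SL(2, k)) := MonoidHom.pi fun _ => MonoidHom.id _
  refine ⟨Ψ.comp diag, fun x => ?_, fun a ha x => ?_, fun g hg => ?_⟩
  · show Ψ (diag x) ∈ H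
    have : Ψ (diag x) ∈ ⨆ i, (T i).range := by
      rw [← MonoidHom.noncommPiCoprod_range (hcomm := hT)]; exact ⟨_, rfl⟩
    refine (iSup_le fun i => ?_ : (⨆ i, (T i).range) ≤ H) this
    rintro _ ⟨y, rfl⟩
    exact (Subgroup.mem_normalizer_iff.1 (hA i.out.2) _).1 (hΔH (htmem y))
  · set b : A := ⟨a, ha⟩
    let re : (ι → SL(2, k)) →* (ι → SL(2, k)) := MonoidHom.pi fun j => Pi.evalMonoidHom _ (b⁻¹ • j)
    have heq : (MulAut.conj a).toMonoidHom.comp Ψ = Ψ.comp re := by
      refine MonoidHom.pi_ext fun i y => ?_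
      show a * Ψ (Pi.mulSingle i y) * a⁻¹ = Ψ (re (Pi.mulSingle i y))
      have hre : re (Pi.mulSingle i y) = Pi.mulSingle (b • i) y := by
        funext j
        show (Pi.mulSingle i y : ι → SL(2, k)) (b⁻¹ • j) = _
        by_cases h : j = b • i
        · subst h; rw [inv_smul_smul, Pi.mulSingle_eq_same, Pi.mulSingle_eq_same]
        · rw [Pi.mulSingle_eq_of_ne h, Pi.mulSingle_eq_of_ne fun e => h (by rw [← e, smul_inv_smul])]
      rw [hre, hΨ, MonoidHom.noncommPiCoprod_mulSingle, MonoidHom.noncommPiCoprod_mulSingle]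
      set c := ((b • i).out : A) with hc
      set d := (i.out : A) with hd
      have hmem : c⁻¹ * (b * d) ∈ A₁.subgroupOf A := by
        refine QuotientGroup.eq.1 ?_
        rw [hc, QuotientGroup.out_eq', hd]
        conv_lhs => rw [← QuotientGroup.out_eq' i]
        rfl
      show a * ((d : LinearMap.GeneralLinearGroup k M) * t y * (d : LinearMap.GeneralLinearGroup k M)⁻¹) * a⁻¹ =
        (c : LinearMap.GeneralLinearGroup k M) * t y * (c : LinearMap.GeneralLinearGroup k M)⁻¹
      conv_rhs => rw [← htfix _ hmem y]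
      simp only [Subgroup.subtype_apply, Subgroup.coe_mul, Subgroup.coe_inv, b]
      group
    have h5 := DFunLike.congr_fun heq (diag x)
    change a * Ψ (diag x) * a⁻¹ = Ψ (diag x) at h5
    exact mul_inv_eq_iff_eq_mul.1 h5
  · let i₀ : ι := QuotientGroup.mk 1
    rw [Subgroup.mem_center_iff]
    intro y
    have hi₀ : ((i₀.out : A) : LinearMap.GeneralLinearGroup k M) ∈ A₁ := by
      have : (1 : A)⁻¹ * i₀.out ∈ A₁.subgroupOf A := QuotientGroup.eq.1 (QuotientGroup.out_eq' i₀).symm
      simpa [Subgroup.mem_subgroupOf] using this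
    have hT₀ : ∀ z, T i₀ z = t z := fun z => htfix _ hi₀ z
    let rest : ι → SL(2, k) := Function.update (diag g) i₀ 1
    have hsplit : diag g = Pi.mulSingle i₀ g * rest := by
      funext j
      by_cases h : j = i₀
      · subst h; simp [rest, diag]
      · simp [rest, diag, Function.update_of_ne h, Pi.mulSingle_eq_of_ne h]
    have hc : Commute (Pi.mulSingle i₀ y : ι → SL(2, k)) rest := by
      funext j
      by_cases h : j = i₀
      · subst h; simp [rest]
      · simp [rest, Pi.mulSingle_eq_of_ne h]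
    have hg1 : Ψ (diag g) = 1 := MonoidHom.mem_ker.1 hg
    rw [hsplit, map_mul, hΨ, MonoidHom.noncommPiCoprod_mulSingle, hT₀] at hg1
    have h6 := hc.map Ψ
    rw [hΨ, MonoidHom.noncommPiCoprod_mulSingle, hT₀] at h6
    have h7 : Commute (t y) (t g) := by
      rw [eq_inv_of_mul_eq_one_left hg1]; exact h6.inv_right
    exact htinj (by rw [map_mul, map_mul]; exact h7.eq)

end CfsgLib.CoprimeQuad
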