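import Cfsg.Agent.Lib.Coprime.Action

/-!
# Fixed points of a coprime operator group on a set with a transitive action
-/

set_option autoImplicit false
set_option linter.style.haveILetI false

open Subgroup

namespace CfsgLib.CoprimeQuad

variable {G : Type*} [Group G] [Finite G] {Ω : Type*}

/-- **Glauberman's lemma.** If `A` normalizes `H` coprimely, is solvable, and moves `x₀` only inside
its `H`-orbit, then `A` fixes a point of that orbit. -/
theorem exists_fixed_in_orbit {A H : Subgroup G} (hA : A ≤ normalizer (H : Set G))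
    (hcop : (Nat.card A).Coprime (Nat.card H)) (hsolv : Group.IsSolvable A)
    (act : G → Ω → Ω) (h1 : ∀ x, act 1 x = x) (hmul : ∀ g h x, act (g * h) x = act g (act h x))
    (x₀ : Ω) (hmove : ∀ a ∈ A, ∃ h ∈ H, act a x₀ = act h x₀) :
    ∃ h ∈ H, ∀ a ∈ A, act a (act h x₀) = act h x₀ := by
  set S : Subgroup G :=
    { carrier := {g | g ∈ A ⊔ H ∧ act g x₀ = x₀}
      one_mem' := ⟨one_mem _, h1 _⟩
      mul_mem' := fun {g k} hg hk => ⟨mul_mem hg.1 hk.1, by rw [hmul, hk.2, hg.2]⟩
      inv_mem' := fun {g} hg => ⟨inv_mem hg.1, by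
        calc act g⁻¹ x₀ = act g⁻¹ (act g x₀) := by rw [hg.2]
          _ = x₀ := by rw [← hmul, inv_mul_cancel, h1]⟩ } with hS
  have hSL : S ≤ A ⊔ H := fun g hg => hg.1
  have hLN : A ⊔ H ≤ normalizer (H : Set G) := sup_le hA le_normalizer
  have hAS : A ≤ S ⊔ H := fun a ha => by
    obtain ⟨h, hh, he⟩ := hmove a ha
    have : h⁻¹ * a ∈ S := ⟨mul_mem (inv_mem (mem_sup_right hh)) (mem_sup_left ha), by
      rw [hmul, he, ← hmul, inv_mul_cancel, h1]⟩
    have h3 := mul_mem (mem_sup_right hh : h ∈ S ⊔ H) (mem_sup_left this : h⁻¹ * a ∈ S ⊔ H)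
    rwa [mul_inv_cancel_left] at h3
  haveI hTn : (H.subgroupOf S).Normal := ⟨fun t ht g =>
    (mem_normalizer_iff.1 (hLN (hSL g.2)) (t : G)).1 ht⟩
  have hidx : (H.subgroupOf S).index = Nat.card A := by
    show H.relIndex S = _
    haveI : (H.subgroupOf (A ⊔ H)).Normal := (normal_subgroupOf_iff_le_normalizer le_sup_right).2 hLN
    have hsup : S ⊔ H = A ⊔ H := le_antisymm (sup_le hSL le_sup_right) (sup_le hAS le_sup_right)
    have hsup' : S.subgroupOf (A ⊔ H) ⊔ H.subgroupOf (A ⊔ H) = ⊤ := by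
      rw [← subgroupOf_sup hSL le_sup_right, hsup, subgroupOf_self]
    have hsupA : A.subgroupOf (A ⊔ H) ⊔ H.subgroupOf (A ⊔ H) = ⊤ := by
      rw [← subgroupOf_sup le_sup_left le_sup_right, subgroupOf_self]
    calc H.relIndex S = (H.subgroupOf (A ⊔ H)).relIndex (S.subgroupOf (A ⊔ H)) :=
          (relIndex_subgroupOf hSL).symm
      _ = (H.subgroupOf (A ⊔ H)).index := by
          rw [← relIndex_sup_right, hsup', relIndex_top_right]
      _ = (H.subgroupOf (A ⊔ H)).relIndex (A.subgroupOf (A ⊔ H)) := by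
          rw [← relIndex_sup_right (H := A.subgroupOf (A ⊔ H)) (K := H.subgroupOf (A ⊔ H)), hsupA, relIndex_top_right]
      _ = H.relIndex A := relIndex_subgroupOf le_sup_left
      _ = Nat.card A := by
          rw [← inf_relIndex_right, inf_comm, CfsgLib.Coprime.disjoint_of_coprime_card hcop,
            relIndex_bot_left]
  obtain ⟨B, hB⟩ := exists_right_complement'_of_coprime (N := H.subgroupOf S) (by
    rw [hidx]
    refine hcop.symm.coprime_dvd_left ?_
    exact card_comap_dvd_of_injective H S.subtype S.subtype_injective)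
  set B' := B.map S.subtype with hB'
  have hBc : Nat.card B' = Nat.card A := by
    rw [hB', card_map_of_injective S.subtype_injective, ← hB.symm.index_eq_card, hidx]
  obtain ⟨x, hx, hxB⟩ := CfsgLib.Coprime.sz_conj_in hA hcop.symm
    ((map_subtype_le B).trans hSL) hBc (Or.inl hsolv)
  refine ⟨x, hx, fun a ha => ?_⟩
  rw [← hxB, CfsgLib.Coprime.mem_conjBy] at ha
  have hb : act (x⁻¹ * a * x) x₀ = x₀ := ((map_subtype_le B) ha).2
  rw [hmul, hmul] at hb
  have := congrArg (act x) hb
  rwa [← hmul, mul_inv_cancel, h1] at this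

end CfsgLib.CoprimeQuad
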