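import Mathlib

/-!
# A space of units closed under `(x, y) ↦ x y x`
-/

set_option autoImplicit false
set_option linter.style.haveILetI false

namespace CfsgLib.CoprimeQuad

variable {k : Type*} [Field k] {R : Type*} [Ring R] [Algebra k R] [Finite R] [Nontrivial R]

/-- In a finite subspace of units containing `1` and closed under `(x, y) ↦ x y x`, a square
determines its root up to sign. -/
theorem eq_or_eq_neg_of_sq_eq (h2 : (2 : k) ≠ 0) (F : Submodule k R) (h1 : (1 : R) ∈ F)
    (hU : ∀ x ∈ F, ∀ y ∈ F, x * y * x ∈ F) (hinv : ∀ x ∈ F, x ≠ 0 → IsUnit x)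
    {x y : R} (hx : x ∈ F) (hy : y ∈ F) (he : x * x = y * y) : x = y ∨ x = -y := by
  classical
  by_contra hne
  push Not at hne
  set s := x + y with hs
  set t := x - y with ht
  have hs0 : s ≠ 0 := fun h => hne.2 (eq_neg_of_add_eq_zero_left h)
  have ht0 : t ≠ 0 := fun h => hne.1 (sub_eq_zero.1 h)
  have hsF : s ∈ F := add_mem hx hy
  have htF : t ∈ F := sub_mem hx hy
  have hst : t * s = -(s * t) := by
    refine eq_neg_of_add_eq_zero_left ?_
    have : t * s + s * t = (2 : R) * (x * x) - (2 : R) * (y * y) := by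
      simp only [hs, ht, sub_mul, mul_sub, add_mul, mul_add, two_mul]; abel
    rw [this, he, sub_self]
  clear_value s t
  clear he hne hs ht hx hy
  have hss : Commute t (s * s) := by
    show t * (s * s) = s * s * t
    rw [← mul_assoc, hst, neg_mul, mul_assoc, hst, mul_neg, neg_neg, mul_assoc]
  have htt : Commute s (t * t) := by
    show s * (t * t) = t * t * s
    rw [mul_assoc t t s, hst, mul_neg, ← mul_assoc t s t, hst, neg_mul, neg_neg, mul_assoc]
  have hcomm : Commute (s * s) (t * t) := htt.mul_left htt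
  set K := Algebra.adjoin k ({s * s, t * t} : Set R) with hK
  have hKc : ∀ a ∈ K, Commute s a ∧ Commute t a := by
    intro a ha
    induction ha using Algebra.adjoin_induction with
    | mem z hz =>
      rcases hz with rfl | rfl
      · exact ⟨(Commute.refl s).mul_right (Commute.refl s), hss⟩
      · exact ⟨htt, (Commute.refl t).mul_right (Commute.refl t)⟩
    | algebraMap r => exact ⟨(Algebra.commute_algebraMap_right r s), (Algebra.commute_algebraMap_right r t)⟩
    | add a b _ _ ha hb => exact ⟨ha.1.add_right hb.1, ha.2.add_right hb.2⟩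
    | mul a b _ _ ha hb => exact ⟨ha.1.mul_right hb.1, ha.2.mul_right hb.2⟩
  -- the elements whose products with `s`, `t` stay in the space
  let P : Submodule k R :=
    { carrier := {z | z ∈ F ∧ Commute s z ∧ Commute t z ∧ z * s ∈ F ∧ z * t ∈ F}
      zero_mem' := ⟨zero_mem F, Commute.zero_right _, Commute.zero_right _, by simp, by simp⟩
      add_mem' := fun {a b} ha hb => ⟨add_mem ha.1 hb.1, ha.2.1.add_right hb.2.1,
        ha.2.2.1.add_right hb.2.2.1, by rw [add_mul]; exact add_mem ha.2.2.2.1 hb.2.2.2.1,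
        by rw [add_mul]; exact add_mem ha.2.2.2.2 hb.2.2.2.2⟩
      smul_mem' := fun c a ha => ⟨F.smul_mem c ha.1, ha.2.1.smul_right c, ha.2.2.1.smul_right c,
        by rw [smul_mul_assoc]; exact F.smul_mem c ha.2.2.2.1,
        by rw [smul_mul_assoc]; exact F.smul_mem c ha.2.2.2.2⟩ }
  have hstep : ∀ z ∈ P, s * s * z ∈ P ∧ t * t * z ∈ P := by
    intro z hz
    obtain ⟨hzF, hzs, hzt, hzsF, hztF⟩ := hz
    refine ⟨⟨?_, ?_, ?_, ?_, ?_⟩, ⟨?_, ?_, ?_, ?_, ?_⟩⟩
    · rw [show s * s * z = s * z * s by rw [mul_assoc s z s, ← hzs.eq, ← mul_assoc]]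
      exact hU s hsF z hzF
    · exact ((Commute.refl s).mul_right (Commute.refl s)).mul_right hzs
    · exact hss.mul_right hzt
    · rw [show s * s * z * s = s * (z * s) * s by rw [mul_assoc s s z, hzs.eq, ← mul_assoc]]
      exact hU s hsF _ hzsF
    · rw [show s * s * z * t = -(s * (z * t) * s) by
        rw [mul_assoc s (z * t) s, mul_assoc z t s, hst, mul_neg, mul_neg, neg_neg, ← mul_assoc z s t,
          ← hzs.eq]; simp only [mul_assoc]]
      exact neg_mem (hU s hsF _ hztF)
    · rw [show t * t * z = t * z * t by rw [mul_assoc t z t, ← hzt.eq, ← mul_assoc]]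
      exact hU t htF z hzF
    · exact htt.mul_right hzs
    · exact ((Commute.refl t).mul_right (Commute.refl t)).mul_right hzt
    · rw [show t * t * z * s = -(t * (z * s) * t) by
        rw [mul_assoc t (z * s) t, mul_assoc z s t, show s * t = -(t * s) by rw [hst, neg_neg],
          mul_neg, mul_neg, neg_neg, ← mul_assoc z t s, ← hzt.eq]; simp only [mul_assoc]]
      exact neg_mem (hU t htF _ hzsF)
    · rw [show t * t * z * t = t * (z * t) * t by rw [mul_assoc t t z, hzt.eq, ← mul_assoc]]
      exact hU t htF _ hztF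
  have hKP : ∀ a ∈ K, ∀ z ∈ P, a * z ∈ P := by
    intro a ha
    induction ha using Algebra.adjoin_induction with
    | mem w hw =>
      intro z hz
      rcases hw with rfl | rfl
      · exact (hstep z hz).1
      · exact (hstep z hz).2
    | algebraMap r => intro z hz; rw [← Algebra.smul_def]; exact P.smul_mem r hz
    | add a b _ _ ha hb => intro z hz; rw [add_mul]; exact P.add_mem (ha z hz) (hb z hz)
    | mul a b _ _ ha hb => intro z hz; rw [mul_assoc]; exact ha _ (hb z hz)
  have h1P : (1 : R) ∈ P :=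
    ⟨h1, Commute.one_right _, Commute.one_right _, by rwa [one_mul], by rwa [one_mul]⟩
  have hKF : ∀ a ∈ K, a ∈ F ∧ a * s ∈ F ∧ a * t ∈ F := fun a ha => by
    have h := hKP a ha 1 h1P
    rw [mul_one] at h
    exact ⟨h.1, h.2.2.2⟩
  -- `K` is a finite field
  haveI : IsMulCommutative K := ⟨⟨fun a b => Subtype.ext (by
    have hall : ∀ a ∈ K, ∀ b ∈ K, Commute a b := by
      intro a ha b hb
      induction hb using Algebra.adjoin_induction with
      | mem w hw =>
        rcases hw with rfl | rfl
        · exact (((hKc a ha).1).mul_left (hKc a ha).1).symm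
        · exact (((hKc a ha).2).mul_left (hKc a ha).2).symm
      | algebraMap r => exact Algebra.commute_algebraMap_right r a
      | add c d _ _ hc hd => exact hc.add_right hd
      | mul c d _ _ hc hd => exact hc.mul_right hd
    exact hall a a.2 b b.2)⟩⟩
  letI : CommRing K := { (inferInstance : Ring K) with mul_comm := fun a b => mul_comm' a b }
  haveI : NoZeroDivisors K := ⟨fun {a b} hab => by
    by_contra hcon
    push Not at hcon
    have hu := hinv a (hKF a a.2).1 fun h => hcon.1 (Subtype.ext h)
    exact hcon.2 (Subtype.ext (hu.mul_right_eq_zero.1 (congrArg Subtype.val hab)))⟩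
  haveI : Nontrivial K := ⟨⟨0, 1, fun h => zero_ne_one (α := R) (congrArg Subtype.val h)⟩⟩
  haveI : IsDomain K := NoZeroDivisors.to_isDomain _
  haveI : Fintype K := Fintype.ofFinite K
  letI : Field K := Fintype.fieldOfDomain K
  let S2 : K := ⟨s * s, Algebra.subset_adjoin (Or.inl rfl)⟩
  let T2 : K := ⟨t * t, Algebra.subset_adjoin (Or.inr rfl)⟩
  have hsu := hinv s hsF hs0
  have htu := hinv t htF ht0
  have hS2 : S2 ≠ 0 := fun h => (hsu.mul hsu).ne_zero (congrArg Subtype.val h)
  have hT2 : T2 ≠ 0 := fun h => (htu.mul htu).ne_zero (congrArg Subtype.val h)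
  have h2R : (2 : R) = algebraMap k R 2 := by rw [map_ofNat]
  have h2u : IsUnit (2 : R) := h2R ▸ (Ne.isUnit h2).map (algebraMap k R)
  have h2K : (2 : K) ≠ 0 := fun h => h2u.ne_zero (congrArg Subtype.val h)
  have hodd : Fintype.card K % 2 = 1 := FiniteField.odd_card_of_char_ne_two fun h => h2K (by
    haveI := ringChar.of_eq h
    exact CharTwo.two_eq_zero)
  obtain ⟨b, c, hbc⟩ : ∃ b c : K, S2 * b ^ 2 + T2 * c ^ 2 = 1 := by
    obtain ⟨b, c, h⟩ := FiniteField.exists_root_sum_quadratic
      (f := Polynomial.C S2 * Polynomial.X ^ 2)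
      (g := Polynomial.C T2 * Polynomial.X ^ 2 - Polynomial.C 1)
      (Polynomial.degree_C_mul_X_pow 2 hS2)
      (by
        rw [Polynomial.degree_sub_C, Polynomial.degree_C_mul_X_pow 2 hT2] <;>
          simp [Polynomial.degree_C_mul_X_pow 2 hT2])
      hodd
    simp only [Polynomial.eval_mul, Polynomial.eval_C, Polynomial.eval_pow, Polynomial.eval_X,
      Polynomial.eval_sub] at h
    exact ⟨b, c, by linear_combination h⟩
  have hbc' : s * s * ((b : R) * b) + t * t * ((c : R) * c) = 1 := by
    have := congrArg Subtype.val hbc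
    simpa [pow_two, S2, T2, Subalgebra.coe_mul, Subalgebra.coe_add] using this
  set w := (b : R) * s + (c : R) * t with hw
  have hsb := (hKc b b.2).1.eq
  have htb := (hKc b b.2).2.eq
  have hsc := (hKc c c.2).1.eq
  have htc := (hKc c c.2).2.eq
  have hbcc : (b : R) * c = c * b := congrArg Subtype.val (mul_comm b c)
  have hww : w * w = 1 := by
    rw [← hbc', hw, add_mul, mul_add, mul_add]
    have e1 : (b : R) * s * (b * s) = s * s * (b * b) := by
      rw [← mul_assoc, mul_assoc (b : R) s b, hsb, ← mul_assoc, mul_assoc, ((hKc b b.2).1.mul_left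
        (hKc b b.2).1 |>.mul_right ((hKc b b.2).1.mul_left (hKc b b.2).1)).eq]
    have e2 : (c : R) * t * (c * t) = t * t * (c * c) := by
      rw [← mul_assoc, mul_assoc (c : R) t c, htc, ← mul_assoc, mul_assoc, ((hKc c c.2).2.mul_left
        (hKc c c.2).2 |>.mul_right ((hKc c c.2).2.mul_left (hKc c c.2).2)).eq]
    have e3 : (c : R) * t * (b * s) = -((b : R) * s * (c * t)) := by
      rw [← mul_assoc, mul_assoc (c : R) t b, htb, ← mul_assoc, ← hbcc, mul_assoc _ t s, hst, mul_neg,
        ← mul_assoc, ← mul_assoc ((b : R) * s), mul_assoc (b : R) s c, hsc, ← mul_assoc]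
    rw [e1, e2, e3]; abel
  have hwF : w ∈ F := add_mem (hKF b b.2).2.1 (hKF c c.2).2.2
  have hfac : (1 + w) * (1 - w) = 0 := by
    rw [add_mul, mul_sub, mul_sub, one_mul, one_mul, mul_one, hww]; abel
  have hwc : Commute s w := by
    by_cases h0 : (1 : R) + w = 0
    · rw [eq_neg_of_add_eq_zero_right h0]; exact (Commute.one_right s).neg_right
    · have := (hinv _ (add_mem h1 hwF) h0).mul_right_eq_zero.1 hfac
      rw [← sub_eq_zero.1 this]; exact Commute.one_right s
  have hc0 : (c : R) = 0 := by
    have e : (c : R) * (s * t) = c * (t * s) := by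
      have h := hwc.eq
      rw [hw, mul_add, add_mul, ← mul_assoc, ← mul_assoc, hsb, hsc, mul_assoc (c : R) s t,
        mul_assoc (c : R) t s] at h
      exact add_left_cancel h
    rw [hst, mul_neg, eq_neg_iff_add_eq_zero, ← two_mul] at e
    exact ((hsu.mul htu).mul_left_eq_zero).1 (h2u.mul_right_eq_zero.1 e)
  have hw0 : w = (b : R) * s := by rw [hw, hc0, zero_mul, add_zero]
  -- then `s` commutes with `t`
  have hbu : IsUnit (b : R) := by
    refine hinv _ (hKF b b.2).1 fun h => ?_
    rw [hw0, h, zero_mul, mul_zero] at hww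
    exact zero_ne_one hww
  have hwt : Commute t w := by
    by_cases h0 : (1 : R) + w = 0
    · rw [eq_neg_of_add_eq_zero_right h0]; exact (Commute.one_right t).neg_right
    · have := (hinv _ (add_mem h1 hwF) h0).mul_right_eq_zero.1 hfac
      rw [← sub_eq_zero.1 this]; exact Commute.one_right t
  have e : (b : R) * (t * s) = b * (s * t) := by
    have h := hwt.eq
    rwa [hw0, ← mul_assoc, htb, mul_assoc, mul_assoc] at h
  have e2 : t * s = s * t := hbu.mul_left_cancel e
  rw [hst, neg_eq_iff_add_eq_zero, ← two_mul] at e2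
  exact (hsu.mul htu).ne_zero (h2u.mul_right_eq_zero.1 e2)

end CfsgLib.CoprimeQuad
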