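import Cfsg.Agent.Lib.CFun.CoprimeQuad.Partner
import Cfsg.Agent.Lib.CFun.CoprimeQuad.Jordan
import Cfsg.Agent.Lib.CFun.CoprimeQuad.Glauberman

/-!
# Two opposite root spaces and the stabilizer of their decomposition
-/

set_option autoImplicit false
set_option linter.style.haveILetI false

namespace CfsgLib.CoprimeQuad

open Cfsg CfsgLib.QuadPair

variable {k : Type*} [Field k] {M : Type*} [AddCommGroup M] [Module k M]

/-- Conjugation of endomorphisms. -/
def conjEnd (g : LinearMap.GeneralLinearGroup k M) (x : M →ₗ[k] M) : M →ₗ[k] M :=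
  (g : M →ₗ[k] M) * x * ((g⁻¹ : LinearMap.GeneralLinearGroup k M) : M →ₗ[k] M)

theorem conjEnd_one (x : M →ₗ[k] M) : conjEnd 1 x = x := by simp [conjEnd]

theorem conjEnd_mul (g h : LinearMap.GeneralLinearGroup k M) (x : M →ₗ[k] M) :
    conjEnd (g * h) x = conjEnd g (conjEnd h x) := by
  simp only [conjEnd, mul_inv_rev, Units.val_mul, mul_assoc]

theorem conjEnd_mul_end (g : LinearMap.GeneralLinearGroup k M) (x y : M →ₗ[k] M) :
    conjEnd g (x * y) = conjEnd g x * conjEnd g y := by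
  simp only [conjEnd, mul_assoc, Units.inv_mul_cancel_left]

theorem conjEnd_neg (g : LinearMap.GeneralLinearGroup k M) (x : M →ₗ[k] M) :
    conjEnd g (-x) = -conjEnd g x := by simp [conjEnd]

theorem conjEnd_eq_zero {g : LinearMap.GeneralLinearGroup k M} {x : M →ₗ[k] M} (h : conjEnd g x = 0) : x = 0 := by
  have := congrArg (conjEnd g⁻¹) h
  rw [← conjEnd_mul, inv_mul_cancel, conjEnd_one] at this
  rw [this]; simp [conjEnd]

theorem conjEnd_eq_iff {g : LinearMap.GeneralLinearGroup k M} {x : M →ₗ[k] M} :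
    conjEnd g x = x ↔ (g : M →ₗ[k] M) * x = x * (g : M →ₗ[k] M) := by
  rw [conjEnd, Units.mul_inv_eq_iff_eq_mul]

/-- The scalar family of `x` lies in `H`. -/
def HasFamily (H : Subgroup (LinearMap.GeneralLinearGroup k M)) (x : M →ₗ[k] M) : Prop :=
  ∀ c : k, ∃ u ∈ H, ((u : LinearMap.GeneralLinearGroup k M) : M →ₗ[k] M) = 1 + c • x

theorem HasFamily.conj {H : Subgroup (LinearMap.GeneralLinearGroup k M)} {x : M →ₗ[k] M} (h : HasFamily H x)
    {g : LinearMap.GeneralLinearGroup k M}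
    (hg : g ∈ Subgroup.normalizer (H : Set (LinearMap.GeneralLinearGroup k M))) : HasFamily H (conjEnd g x) := by
  intro c
  obtain ⟨u, hu, eu⟩ := h c
  refine ⟨g * u * g⁻¹, (Subgroup.mem_normalizer_iff.1 hg u).1 hu, ?_⟩
  rw [Units.val_mul, Units.val_mul, eu, mul_add, add_mul, mul_one, Units.mul_inv, mul_smul_comm,
    smul_mul_assoc]
  rfl

theorem HasFamily.neg {H : Subgroup (LinearMap.GeneralLinearGroup k M)} {x : M →ₗ[k] M} (h : HasFamily H x) :
    HasFamily H (-x) := fun c => by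
  obtain ⟨u, hu, eu⟩ := h (-c)
  exact ⟨u, hu, by rw [eu, neg_smul, smul_neg]⟩

/-- Two opposite root spaces with their idempotents. -/
structure IsFrame (H : Subgroup (LinearMap.GeneralLinearGroup k M)) (R B : Submodule k (M →ₗ[k] M))
    (e f : M →ₗ[k] M) : Prop where
  ee : e * e = e
  ff : f * f = f
  ef : e * f = 0
  fe : f * e = 0
  memR : ∀ x, x ∈ R ↔ e * x = x ∧ x * f = x ∧ HasFamily H x
  memB : ∀ x, x ∈ B ↔ f * x = x ∧ x * e = x ∧ HasFamily H x
  invR : ∀ x ∈ R, x ≠ 0 → ∃ y ∈ B, x * y = e ∧ y * x = f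
  invB : ∀ y ∈ B, y ≠ 0 → ∃ x ∈ R, x * y = e ∧ y * x = f

namespace IsFrame

variable {H : Subgroup (LinearMap.GeneralLinearGroup k M)} {R B : Submodule k (M →ₗ[k] M)}
  {e f : M →ₗ[k] M}

theorem symm (h : IsFrame H R B e f) : IsFrame H B R f e :=
  ⟨h.ff, h.ee, h.fe, h.ef, h.memB, h.memR,
    fun y hy hy0 => let ⟨x, hx, a, b⟩ := h.invB y hy hy0; ⟨x, hx, b, a⟩,
    fun x hx hx0 => let ⟨y, hy, a, b⟩ := h.invR x hx hx0; ⟨y, hy, b, a⟩⟩

theorem left_R (h : IsFrame H R B e f) {x : M →ₗ[k] M} (hx : x ∈ R) : e * x = x ∧ f * x = 0 := by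
  refine ⟨((h.memR x).1 hx).1, ?_⟩
  rw [← ((h.memR x).1 hx).1, ← mul_assoc, h.fe, zero_mul]

theorem right_R (h : IsFrame H R B e f) {x : M →ₗ[k] M} (hx : x ∈ R) : x * f = x ∧ x * e = 0 := by
  refine ⟨((h.memR x).1 hx).2.1, ?_⟩
  rw [← ((h.memR x).1 hx).2.1, mul_assoc, h.fe, mul_zero]

theorem mul_RR (h : IsFrame H R B e f) {x z : M →ₗ[k] M} (hx : x ∈ R) (hz : z ∈ R) : x * z = 0 := by
  rw [← (h.left_R hz).1, ← mul_assoc, (h.right_R hx).2, zero_mul]

/-- The element interchanging the two sides. -/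
theorem exists_swap (h : IsFrame H R B e f) {x y : M →ₗ[k] M} (hx : x ∈ R) (hy : y ∈ B) (hxy : x * y = e)
    (hyx : y * x = f) :
    ∃ w ∈ H, conjEnd w e = f ∧ conjEnd w f = e ∧ (∀ z ∈ B, conjEnd w z = -(x * z * x)) ∧
      ∀ z ∈ R, conjEnd w z = -(y * z * y) := by
  obtain ⟨u, hu, eu⟩ := ((h.memR x).1 hx).2.2 1
  obtain ⟨v, hv, ev⟩ := ((h.memB y).1 hy).2.2 (-1)
  rw [one_smul] at eu
  rw [neg_one_smul] at ev
  have hxx := h.mul_RR hx hx
  have hyy := h.symm.mul_RR hy hy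
  have ui : ((u⁻¹ : LinearMap.GeneralLinearGroup k M) : M →ₗ[k] M) = 1 - x := by
    refine Units.inv_eq_of_mul_eq_one_right ?_
    rw [eu, show (1 + x) * (1 - x) = 1 - x * x by noncomm_ring, hxx, sub_zero]
  have vi : ((v⁻¹ : LinearMap.GeneralLinearGroup k M) : M →ₗ[k] M) = 1 + y := by
    refine Units.inv_eq_of_mul_eq_one_right ?_
    rw [ev, show (1 + -y) * (1 + y) = 1 - y * y by noncomm_ring, hyy, sub_zero]
  have hxe := (h.right_R hx).2
  have hex := (h.left_R hx).1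
  have hxyx : x * y * x = x := by rw [hxy, hex]
  have hw : ((u * v * u : LinearMap.GeneralLinearGroup k M) : M →ₗ[k] M) = 1 - e - f + x - y := by
    rw [Units.val_mul, Units.val_mul, eu, ev, show (1 + x) * (1 + -y) * (1 + x) =
      1 + x + x - y - x * y - y * x + x * x - x * y * x by noncomm_ring, hxx, hxyx, hxy, hyx]
    abel
  have hwi : (((u * v * u)⁻¹ : LinearMap.GeneralLinearGroup k M) : M →ₗ[k] M) = 1 - e - f - x + y := by
    rw [mul_inv_rev, mul_inv_rev, Units.val_mul, Units.val_mul, ui, vi, show (1 - x) * ((1 + y) * (1 - x)) =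
      1 - x - x + y - x * y - y * x + x * x + x * y * x by noncomm_ring, hxx, hxyx, hxy, hyx]
    abel
  refine ⟨u * v * u, mul_mem (mul_mem hu hv) hu, ?_, ?_, fun z hz => ?_, fun z hz => ?_⟩
  · rw [conjEnd, hw, hwi]
    simp only [sub_mul, add_mul, mul_sub, mul_add, one_mul, mul_one, h.ee, h.fe, hxe, (h.symm.right_R hy).1,
      (h.symm.right_R hy).2, hyx, hyy, zero_mul, mul_zero]
    abel
  · rw [conjEnd, hw, hwi]
    simp only [sub_mul, add_mul, mul_sub, mul_add, one_mul, mul_one, h.ff, h.ef, (h.right_R hx).1,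
      (h.symm.right_R hy).2, hxe, hxy, hxx, zero_mul, mul_zero]
    abel
  · rw [conjEnd, hw, hwi]
    have hzf := (h.symm.right_R hz).2
    have hze := (h.symm.right_R hz).1
    have hyz := h.symm.mul_RR hy hz
    have hzy := h.symm.mul_RR hz hy
    have hw1 : (1 - e - f + x - y) * z = x * z := by
      simp only [sub_mul, add_mul, one_mul, (h.symm.left_R hz).1, (h.symm.left_R hz).2, hyz]
      abel
    rw [hw1, mul_assoc, show z * (1 - e - f - x + y) = -(z * x) by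
      simp only [mul_sub, mul_add, mul_one, hze, hzf, hzy]; abel, mul_neg, ← mul_assoc]
  · rw [conjEnd, hw, hwi]
    have hzf := (h.right_R hz).1
    have hze := (h.right_R hz).2
    have hxz := h.mul_RR hx hz
    have hzx := h.mul_RR hz hx
    have hw1 : (1 - e - f + x - y) * z = -(y * z) := by
      simp only [sub_mul, add_mul, one_mul, (h.left_R hz).1, (h.left_R hz).2, hxz]
      abel
    rw [hw1, neg_mul, mul_assoc, show z * (1 - e - f - x + y) = z * y by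
      simp only [mul_sub, mul_add, mul_one, hze, hzf, hzx]; abel, ← mul_assoc]

theorem sandwich (h : IsFrame H R B e f) {x z : M →ₗ[k] M} (hx : x ∈ R) (hz : z ∈ B) : x * z * x ∈ R := by
  by_cases hx0 : x = 0
  · subst hx0; simp
  obtain ⟨y, hy, hxy, hyx⟩ := h.invR x hx hx0
  obtain ⟨w, hw, -, -, hwB, -⟩ := h.exists_swap hx hy hxy hyx
  refine (h.memR _).2 ⟨?_, ?_, ?_⟩
  · rw [← mul_assoc, ← mul_assoc, (h.left_R hx).1]
  · rw [mul_assoc, (h.right_R hx).1]
  · have := (((h.memB z).1 hz).2.2.conj (Subgroup.le_normalizer hw)).neg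
    rwa [hwB z hz, neg_neg] at this

theorem conj_mem (h : IsFrame H R B e f) {g : LinearMap.GeneralLinearGroup k M}
    (hg : g ∈ Subgroup.normalizer (H : Set (LinearMap.GeneralLinearGroup k M)))
    (hge : conjEnd g e = e) (hgf : conjEnd g f = f) {x : M →ₗ[k] M} (hx : x ∈ R) : conjEnd g x ∈ R := by
  obtain ⟨a, b, c⟩ := (h.memR x).1 hx
  refine (h.memR _).2 ⟨?_, ?_, c.conj hg⟩
  · conv_lhs => rw [← hge]
    rw [← conjEnd_mul_end, a]
  · conv_lhs => rw [← hgf]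
    rw [← conjEnd_mul_end, b]

/-- The stabilizer of the decomposition. -/
def stab (H : Subgroup (LinearMap.GeneralLinearGroup k M)) (e f : M →ₗ[k] M) :
    Subgroup (LinearMap.GeneralLinearGroup k M) where
  carrier := {g | g ∈ H ∧ conjEnd g e = e ∧ conjEnd g f = f}
  one_mem' := ⟨one_mem H, conjEnd_one e, conjEnd_one f⟩
  mul_mem' := fun {g g'} hg hg' => ⟨mul_mem hg.1 hg'.1, by rw [conjEnd_mul, hg'.2.1, hg.2.1],
    by rw [conjEnd_mul, hg'.2.2, hg.2.2]⟩
  inv_mem' := fun {g} hg => ⟨inv_mem hg.1, by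
    conv_lhs => rw [← hg.2.1]
    rw [← conjEnd_mul, inv_mul_cancel, conjEnd_one], by
    conv_lhs => rw [← hg.2.2]
    rw [← conjEnd_mul, inv_mul_cancel, conjEnd_one]⟩

/-- The orbit map. -/
theorem exists_stab_conj (h : IsFrame H R B e f) {x y γ : M →ₗ[k] M} (hx : x ∈ R) (hy : y ∈ B)
    (hxy : x * y = e) (hyx : y * x = f) (hγ : γ ∈ R) (hγ0 : γ ≠ 0) :
    ∃ d ∈ stab H e f, conjEnd d x = γ * y * γ := by
  obtain ⟨w, hw, we, wf, -, wR⟩ := h.exists_swap hx hy hxy hyx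
  obtain ⟨β, hβ, hγβ, hβγ⟩ := h.invR γ hγ hγ0
  obtain ⟨w', hw', we', wf', wB', -⟩ := h.exists_swap hγ hβ hγβ hβγ
  refine ⟨w' * w, ⟨mul_mem hw' hw, by rw [conjEnd_mul, we, wf'], by rw [conjEnd_mul, wf, we']⟩, ?_⟩
  rw [conjEnd_mul, wR x hx, hyx, (h.symm.left_R hy).1, conjEnd_neg, wB' y hy, neg_neg]

variable [FiniteDimensional k M] [Finite k]

theorem eq_or_eq_neg (h : IsFrame H R B e f) (h2 : (2 : k) ≠ 0) {x y γ δ : M →ₗ[k] M} (hx : x ∈ R)
    (hy : y ∈ B) (hxy : x * y = e) (hyx : y * x = f) (hx0 : x ≠ 0) (hγ : γ ∈ R) (hδ : δ ∈ R)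
    (he : γ * y * γ = δ * y * δ) : γ = δ ∨ γ = -δ := by
  set I := LinearMap.range e
  have hfix : ∀ m ∈ I, e m = m := by
    rintro _ ⟨m, rfl⟩; rw [← Module.End.mul_apply, h.ee]
  let L : (M →ₗ[k] M) →ₗ[k] Module.End k I :=
    { toFun := fun g => e.rangeRestrict ∘ₗ g ∘ₗ I.subtype
      map_add' := fun g g' => by rw [LinearMap.add_comp, LinearMap.comp_add]
      map_smul' := fun c g => by rw [LinearMap.smul_comp, LinearMap.comp_smul]; rfl }
  have hL : ∀ g (m : I), ((L g m : I) : M) = e (g (m : M)) := fun g m => rfl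
  have hLmul : ∀ g g', L g * L g' = L (g * e * g') := fun g g' =>
    LinearMap.ext fun m => Subtype.ext rfl
  have hLe : L e = 1 := LinearMap.ext fun m => Subtype.ext (by
    rw [hL, hfix _ ⟨_, rfl⟩, hfix _ m.2]; rfl)
  let Φ : (M →ₗ[k] M) →ₗ[k] Module.End k I := L.comp (LinearMap.mulRight k y)
  have hΦ : ∀ g, Φ g = L (g * y) := fun g => rfl
  have hye := (h.symm.right_R hy).1
  have hinj : ∀ g ∈ R, Φ g = 0 → g = 0 := by
    intro g hg h0
    have : e * (g * y) * e = 0 := by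
      refine LinearMap.ext fun m => ?_
      have := congrArg (fun F : Module.End k I => ((F ⟨e m, ⟨m, rfl⟩⟩ : I) : M)) h0
      rw [hΦ, hL] at this
      exact this
    rw [← mul_assoc, (h.left_R hg).1, mul_assoc, hye] at this
    rw [← (h.right_R hg).1, ← hyx, ← mul_assoc, this, zero_mul]
  haveI : Finite (Module.End k I) := Module.finite_of_finite k
  haveI : Nontrivial (Module.End k I) := by
    refine ⟨⟨1, 0, fun h10 => hx0 ?_⟩⟩
    refine hinj x hx ?_
    rw [hΦ, hxy, hLe, h10]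
  have key := eq_or_eq_neg_of_sq_eq h2 (R.map Φ) ⟨x, hx, by rw [hΦ, hxy, hLe]⟩ ?_ ?_
    (x := Φ γ) (y := Φ δ) ⟨γ, hγ, rfl⟩ ⟨δ, hδ, rfl⟩ ?_
  · rcases key with hk | hk
    · exact Or.inl (sub_eq_zero.1 (hinj _ (sub_mem hγ hδ) (by rw [map_sub, hk, sub_self])))
    · refine Or.inr (eq_neg_of_add_eq_zero_left (hinj _ (add_mem hγ hδ) ?_))
      rw [map_add, hk, neg_add_cancel]
  · rintro _ ⟨a, ha, rfl⟩ _ ⟨b, hb, rfl⟩
    refine ⟨a * (y * b * y) * a, h.sandwich ha (h.symm.sandwich hy hb), ?_⟩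
    simp only [hΦ, hLmul]
    congr 1
    calc a * (y * b * y) * a * y = a * y * (b * y) * (a * y) := by simp only [mul_assoc]
      _ = a * (y * e) * (b * (y * e)) * (a * y) := by rw [hye]
      _ = _ := by simp only [mul_assoc]
  · rintro _ ⟨a, ha, rfl⟩ ha0
    have ha' : a ≠ 0 := fun h0 => ha0 (by rw [h0, map_zero])
    obtain ⟨b, hb, hab, hba⟩ := h.invR a ha ha'
    refine ⟨⟨Φ a, L (x * b), ?_, ?_⟩, rfl⟩
    · rw [hΦ, hLmul, ← hLe]
      congr 1
      rw [mul_assoc a y e, hye, ← mul_assoc, mul_assoc a y x, hyx, (h.right_R ha).1, hab]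
    · rw [hΦ, hLmul, ← hLe]
      congr 1
      rw [mul_assoc x b e, (h.symm.right_R hb).1, ← mul_assoc, mul_assoc x b a, hba, (h.right_R hx).1, hxy]
  · simp only [hΦ, hLmul]
    congr 1
    calc γ * y * e * (γ * y) = γ * (y * e) * γ * y := by simp only [mul_assoc]
      _ = δ * (y * e) * δ * y := by rw [hye, he]
      _ = δ * y * e * (δ * y) := by simp only [mul_assoc]

/-- An orbit of the stabilizer fills at least half of the root space. -/
theorem card_le_two_mul_orbit (h : IsFrame H R B e f) (h2 : (2 : k) ≠ 0) {x : M →ₗ[k] M} (hx : x ∈ R)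
    (hx0 : x ≠ 0) :
    Nat.card {z // z ∈ R ∧ z ≠ 0} ≤ 2 * Nat.card {z // ∃ d ∈ stab H e f, conjEnd d x = z} := by
  classical
  haveI : Finite (M →ₗ[k] M) := Module.finite_of_finite k
  haveI := Fintype.ofFinite (M →ₗ[k] M)
  obtain ⟨y, hy, hxy, hyx⟩ := h.invR x hx hx0
  rw [Nat.card_eq_fintype_card, Nat.card_eq_fintype_card, Fintype.card_subtype, Fintype.card_subtype]
  refine le_trans (Finset.card_le_mul_card_image (f := fun γ => γ * y * γ) _ 2 fun z hz => ?_)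
    (Nat.mul_le_mul le_rfl (Finset.card_le_card ?_))
  · obtain ⟨γ, hγ, rfl⟩ := Finset.mem_image.1 hz
    rw [Finset.mem_filter] at hγ
    refine le_trans (Finset.card_le_card (t := {γ, -γ}) fun δ hδ => ?_) Finset.card_le_two
    simp only [Finset.mem_filter, Finset.mem_univ, true_and] at hδ hγ
    simp only [Finset.mem_insert, Finset.mem_singleton]
    exact h.eq_or_eq_neg h2 hx hy hxy hyx hx0 hδ.1.1 hγ.1 hδ.2
  · intro z hz
    obtain ⟨γ, hγ, rfl⟩ := Finset.mem_image.1 hz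
    simp only [Finset.mem_filter, Finset.mem_univ, true_and] at hγ ⊢
    exact h.exists_stab_conj hx hy hxy hyx hγ.1 hγ.2

/-- Odd coprime operators fixing the decomposition fix a member of the root space. -/
theorem exists_fixed_member (h : IsFrame H R B e f) (h2 : (2 : k) ≠ 0) {x₀ : M →ₗ[k] M} (hx₀ : x₀ ∈ R)
    (hx0 : x₀ ≠ 0) {A : Subgroup (LinearMap.GeneralLinearGroup k M)}
    (hA : A ≤ Subgroup.normalizer (H : Set (LinearMap.GeneralLinearGroup k M)))
    (hcop : (Nat.card A).Coprime (Nat.card H)) (hsolv : Group.IsSolvable A) (hodd : Odd (Nat.card A))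
    (hfix : ∀ a ∈ A, conjEnd a e = e ∧ conjEnd a f = f) :
    ∃ γ ∈ R, ∃ β ∈ B, γ ≠ 0 ∧ γ * β = e ∧ β * γ = f ∧
      ∀ a ∈ A, conjEnd a γ = γ ∧ conjEnd a β = β := by
  classical
  haveI := finite_gl (k := k) (M := M)
  set D := stab H e f with hD
  have hDH : D ≤ H := fun d hd => hd.1
  have hAD : ∀ a ∈ A, ∀ d ∈ D, a * d * a⁻¹ ∈ D := fun a ha d hd => by
    have hai := hfix a⁻¹ (inv_mem ha)
    refine ⟨(Subgroup.mem_normalizer_iff.1 (hA ha) d).1 hd.1, ?_, ?_⟩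
    · rw [conjEnd_mul, hai.1, conjEnd_mul, hd.2.1, (hfix a ha).1]
    · rw [conjEnd_mul, hai.2, conjEnd_mul, hd.2.2, (hfix a ha).2]
  have hAN : A ≤ Subgroup.normalizer (D : Set (LinearMap.GeneralLinearGroup k M)) := by
    intro a ha
    rw [Subgroup.mem_normalizer_iff]
    refine fun d => ⟨hAD a ha d, fun hd => ?_⟩
    have := hAD a⁻¹ (inv_mem ha) _ hd
    simpa [mul_assoc] using this
  let O : (M →ₗ[k] M) → Prop := fun z => ∃ d ∈ D, conjEnd d x₀ = z
  have hinR : ∀ z, O z → z ∈ R ∧ z ≠ 0 := by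
    rintro _ ⟨d, hd, rfl⟩
    exact ⟨h.conj_mem (Subgroup.le_normalizer hd.1) hd.2.1 hd.2.2 hx₀, fun h0 => hx0 (conjEnd_eq_zero h0)⟩
  have hAR : ∀ a ∈ A, ∀ z, z ∈ R ∧ z ≠ 0 → conjEnd a z ∈ R ∧ conjEnd a z ≠ 0 := fun a ha z hz =>
    ⟨h.conj_mem (hA ha) (hfix a ha).1 (hfix a ha).2 hz.1, fun h0 => hz.2 (conjEnd_eq_zero h0)⟩
  -- two members outside the orbit lie in one orbit
  have htwo : ∀ z z', (z ∈ R ∧ z ≠ 0) → (z' ∈ R ∧ z' ≠ 0) → ¬ O z → ¬ O z' → ∃ d ∈ D, conjEnd d z = z' := by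
    intro z z' hz hz' hOz hOz'
    by_contra hcon
    haveI : Finite (M →ₗ[k] M) := Module.finite_of_finite k
    haveI := Fintype.ofFinite (M →ₗ[k] M)
    let orb : (M →ₗ[k] M) → Finset (M →ₗ[k] M) := fun w =>
      Finset.univ.filter fun v => ∃ d ∈ D, conjEnd d w = v
    have hdisj : ∀ w w', ¬ (∃ d ∈ D, conjEnd d w = w') → Disjoint (orb w) (orb w') := by
      intro w w' hww
      rw [Finset.disjoint_left]
      intro v hv hv'
      simp only [orb, Finset.mem_filter, Finset.mem_univ, true_and] at hv hv'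
      obtain ⟨d, hd, rfl⟩ := hv
      obtain ⟨d', hd', e'⟩ := hv'
      refine hww ⟨d'⁻¹ * d, mul_mem (inv_mem hd') hd, ?_⟩
      rw [conjEnd_mul, ← e', ← conjEnd_mul, inv_mul_cancel, conjEnd_one]
    have hsub : ∀ w, w ∈ R ∧ w ≠ 0 → orb w ⊆ Finset.univ.filter (fun v => v ∈ R ∧ v ≠ 0) ∧
        Nat.card {v // v ∈ R ∧ v ≠ 0} ≤ 2 * (orb w).card := by
      intro w hw
      refine ⟨?_, ?_⟩
      · intro v hv
        simp only [orb, Finset.mem_filter, Finset.mem_univ, true_and] at hv ⊢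
        obtain ⟨d, hd, rfl⟩ := hv
        exact ⟨h.conj_mem (Subgroup.le_normalizer hd.1) hd.2.1 hd.2.2 hw.1, fun h0 => hw.2 (conjEnd_eq_zero h0)⟩
      · refine le_trans (h.card_le_two_mul_orbit h2 hw.1 hw.2) (le_of_eq ?_)
        rw [Nat.card_eq_fintype_card, Fintype.card_subtype]
    obtain ⟨s1, c1⟩ := hsub x₀ ⟨hx₀, hx0⟩
    obtain ⟨s2, c2⟩ := hsub z hz
    obtain ⟨s3, c3⟩ := hsub z' hz'
    have hd12 := hdisj x₀ z hOz
    have hd13 := hdisj x₀ z' hOz'
    have hd23 := hdisj z z' hcon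
    have hU := Finset.card_le_card (Finset.union_subset (Finset.union_subset s1 s2) s3)
    rw [Finset.card_union_of_disjoint (Finset.disjoint_union_left.2 ⟨hd13, hd23⟩),
      Finset.card_union_of_disjoint hd12] at hU
    have hN : Nat.card {v // v ∈ R ∧ v ≠ 0} =
        (Finset.univ.filter (fun v : M →ₗ[k] M => v ∈ R ∧ v ≠ 0)).card := by
      rw [Nat.card_eq_fintype_card, Fintype.card_subtype]
    have hpos : 0 < Nat.card {v // v ∈ R ∧ v ≠ 0} := by
      haveI : Nonempty {v // v ∈ R ∧ v ≠ 0} := ⟨⟨x₀, hx₀, hx0⟩⟩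
      exact Nat.card_pos
    omega
  have hsq : ∀ a ∈ A, O (conjEnd (a * a) x₀) := by
    intro a ha
    by_cases h1 : O (conjEnd a x₀)
    · obtain ⟨d, hd, hde⟩ := h1
      refine ⟨a * d * a⁻¹ * d, mul_mem (hAD a ha d hd) hd, ?_⟩
      rw [conjEnd_mul, hde, ← conjEnd_mul, show a * d * a⁻¹ * a = a * d by group, conjEnd_mul, hde, conjEnd_mul]
    · by_contra h2'
      have hz := hAR a ha x₀ ⟨hx₀, hx0⟩
      obtain ⟨d, hd, hde⟩ := htwo _ _ hz (hAR (a * a) (mul_mem ha ha) x₀ ⟨hx₀, hx0⟩) h1 h2'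
      refine h1 ⟨a⁻¹ * d * a, by simpa using hAD a⁻¹ (inv_mem ha) d hd, ?_⟩
      have h5 := congrArg (conjEnd a⁻¹) hde
      rw [← conjEnd_mul, ← conjEnd_mul, ← conjEnd_mul, inv_mul_cancel_left] at h5
      exact h5
  have hmul : ∀ a ∈ A, ∀ b ∈ A, O (conjEnd a x₀) → O (conjEnd b x₀) → O (conjEnd (a * b) x₀) := by
    rintro a ha b hb ⟨d, hd, hde⟩ ⟨d', hd', hde'⟩
    refine ⟨a * d' * a⁻¹ * d, mul_mem (hAD a ha d' hd') hd, ?_⟩
    rw [conjEnd_mul, hde, ← conjEnd_mul, show a * d' * a⁻¹ * a = a * d' by group, conjEnd_mul, hde', conjEnd_mul]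
  have hmove : ∀ a ∈ A, ∃ d ∈ D, conjEnd a x₀ = conjEnd d x₀ := by
    intro a ha
    obtain ⟨m, hm⟩ : Odd (orderOf a) := hodd.of_dvd_nat (Subgroup.orderOf_dvd_natCard A ha)
    have hpow : ∀ n : ℕ, O (conjEnd ((a * a) ^ n) x₀) := by
      intro n
      induction n with
      | zero => exact ⟨1, one_mem D, by rw [pow_zero]⟩
      | succ n ih =>
        rw [pow_succ]
        exact hmul _ (pow_mem (mul_mem ha ha) n) _ (mul_mem ha ha) ih (hsq a ha)
    have ea : (a * a) ^ (m + 1) = a := by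
      rw [← pow_two, ← pow_mul, show 2 * (m + 1) = orderOf a + 1 by omega, pow_succ, pow_orderOf_eq_one, one_mul]
    obtain ⟨d, hd, hde⟩ := hpow (m + 1)
    rw [ea] at hde
    exact ⟨d, hd, hde.symm⟩
  obtain ⟨d, hd, hfixd⟩ := exists_fixed_in_orbit hAN
    (hcop.coprime_dvd_right (Subgroup.card_dvd_of_le hDH)) hsolv conjEnd conjEnd_one conjEnd_mul x₀ hmove
  obtain ⟨hγ, hγ0⟩ := hinR _ ⟨d, hd, rfl⟩
  obtain ⟨β, hβ, hγβ, hβγ⟩ := h.invR _ hγ hγ0
  refine ⟨_, hγ, β, hβ, hγ0, hγβ, hβγ, fun a ha => ⟨hfixd a ha, ?_⟩⟩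
  have hb' := h.symm.conj_mem (hA ha) (hfix a ha).2 (hfix a ha).1 hβ
  have h6 : conjEnd d x₀ * conjEnd a β = e := by
    conv_lhs => rw [← hfixd a ha]
    rw [← conjEnd_mul_end, hγβ, (hfix a ha).1]
  calc conjEnd a β = f * conjEnd a β := (h.symm.left_R hb').1.symm
    _ = β * e := by rw [← hβγ, mul_assoc, h6]
    _ = β := (h.symm.right_R hβ).1

end IsFrame

end CfsgLib.CoprimeQuad
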