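import Cfsg.Agent.Lib.CFun.CoprimeQuad.Core
import Cfsg.Agent.Lib.Qd.SLTwo

/-!
# Quadratic action outside the `p`-core and sections `PSL₂(p)` of fixed points
-/

set_option autoImplicit false
set_option linter.style.haveILetI false

namespace CfsgLib.CoprimeQuad

open Cfsg CfsgLib.QuadPair
open scoped MatrixGroups

universe u v

/-- A homomorphism of `SL₂` with central kernel gives a section `PSL₂`. -/
theorem involves_psl_of_hom {F : Type*} [CommRing F] {G : Type*} [Group G] (φ : SL(2, F) →* G)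
    (hφ : φ.ker ≤ Subgroup.center SL(2, F)) :
    Cfsg.Involves (Matrix.ProjectiveSpecialLinearGroup (Fin 2) F) G := by
  refine CfsgLib.Fusion.involves_of_injective φ.range.subtype φ.range.subtype_injective ?_
  let π := QuotientGroup.mk' (Subgroup.center SL(2, F))
  let χ : φ.range →* SL(2, F) ⧸ Subgroup.center SL(2, F) :=
    (QuotientGroup.lift φ.ker π (by rw [QuotientGroup.ker_mk']; exact hφ)).comp
      (QuotientGroup.quotientKerEquivRange φ).symm.toMonoidHom
  refine CfsgLib.Fusion.involves_of_surjective χ ?_ (CfsgLib.CFun.involves_self _)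
  refine (QuotientGroup.lift_surjective_of_surjective _ π (QuotientGroup.mk'_surjective _)
    (by rw [QuotientGroup.ker_mk']; exact hφ)).comp ?_
  exact (QuotientGroup.quotientKerEquivRange φ).symm.surjective

variable {p : ℕ} [Fact p.Prime]

omit [Fact p.Prime] in
/-- The `p`-core of a subgroup is invariant under its normalizer. -/
theorem conj_mem_pCore {L : Type*} [Group L] {H : Subgroup L} {g x : L}
    (hg : g ∈ Subgroup.normalizer (H : Set L)) (hx : x ∈ (Cfsg.pCore p ↥H).map H.subtype) :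
    g * x * g⁻¹ ∈ (Cfsg.pCore p ↥H).map H.subtype := by
  obtain ⟨y, hy, rfl⟩ := hx
  let θ : ↥H →* ↥H :=
    { toFun := fun z => ⟨g * z * g⁻¹, (Subgroup.mem_normalizer_iff.1 hg z).1 z.2⟩
      map_one' := Subtype.ext (by simp)
      map_mul' := fun a b => Subtype.ext (by simp [mul_assoc]) }
  have hθ : Function.Surjective θ := fun z =>
    ⟨⟨g⁻¹ * z * g, (Subgroup.mem_normalizer_iff''.1 hg z).1 z.2⟩, Subtype.ext (by simp [θ, mul_assoc])⟩
  exact ⟨θ y, CfsgLib.Coprime.map_pCore_le hθ p ⟨y, hy, rfl⟩, rfl⟩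

section Restrict

variable {k : Type*} [Field k] {M : Type v} [AddCommGroup M] [Module k M] {Γ : Type u} [Group Γ]

/-- Restriction of a representation to an invariant subspace. -/
def subRep (ρ : Γ →* LinearMap.GeneralLinearGroup k M) (W : Submodule k M)
    (hW : ∀ g, ∀ w ∈ W, (ρ g : M →ₗ[k] M) w ∈ W) : Γ →* LinearMap.GeneralLinearGroup k W :=
  MonoidHom.toHomUnits
    { toFun := fun g => (ρ g : M →ₗ[k] M).restrict (hW g)
      map_one' := LinearMap.ext fun w => Subtype.ext (by simp)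
      map_mul' := fun g h => LinearMap.ext fun w => Subtype.ext (by simp) }

theorem subRep_alpha (ρ : Γ →* LinearMap.GeneralLinearGroup k M) (W : Submodule k M)
    (hW : ∀ g, ∀ w ∈ W, (ρ g : M →ₗ[k] M) w ∈ W) (g : Γ) (w : W) :
    ((alpha (subRep ρ W hW g) w : W) : M) = alpha (ρ g) w := rfl

/-- The representation on the quotient by an invariant subspace. -/
def quotRep (ρ : Γ →* LinearMap.GeneralLinearGroup k M) (W : Submodule k M)
    (hW : ∀ g, ∀ w ∈ W, (ρ g : M →ₗ[k] M) w ∈ W) : Γ →* LinearMap.GeneralLinearGroup k (M ⧸ W) :=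
  MonoidHom.toHomUnits
    { toFun := fun g => W.mapQ W (ρ g : M →ₗ[k] M) (fun w hw => hW g w hw)
      map_one' := Submodule.linearMap_qext _ (LinearMap.ext fun w => by simp)
      map_mul' := fun g h => Submodule.linearMap_qext _ (LinearMap.ext fun w => by simp) }

theorem quotRep_alpha (ρ : Γ →* LinearMap.GeneralLinearGroup k M) (W : Submodule k M)
    (hW : ∀ g, ∀ w ∈ W, (ρ g : M →ₗ[k] M) w ∈ W) (g : Γ) (m : M) :
    alpha (quotRep ρ W hW g) (Submodule.Quotient.mk m) = Submodule.Quotient.mk (alpha (ρ g) m) := rfl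

end Restrict

variable {Γ : Type u} [Group Γ] [Finite Γ]

theorem involves_fixed_aux (hp5 : 5 ≤ p) (G A : Subgroup Γ) [G.Normal]
    (hcop : (Nat.card A).Coprime (Nat.card G)) {a : Γ} (ha : a ∈ G) :
    ∀ (n : ℕ) (M : Type v) [AddCommGroup M] [Module (ZMod p) M] [Finite M],
      Nat.card M = n → ∀ ρ : Γ →* LinearMap.GeneralLinearGroup (ZMod p) M,
      alpha (ρ a) * alpha (ρ a) = 0 →
      (∀ N : Subgroup Γ, N.Normal → N ≤ G → IsPGroup p (N.map ρ) → a ∉ N) →
      Cfsg.Involves (Matrix.ProjectiveSpecialLinearGroup (Fin 2) (ZMod p))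
        ↥(G ⊓ Subgroup.centralizer (A : Set Γ)) := by
  intro n
  induction n using Nat.strong_induction_on with
  | _ n ih =>
  intro M _ _ _ hM ρ hq hbad
  haveI : Module.Finite (ZMod p) M := Module.Finite.of_finite
  haveI := finite_gl (k := ZMod p) (M := M)
  by_cases hN : ∃ N : Subgroup Γ, N.Normal ∧ N ≤ G ∧ IsPGroup p (N.map ρ) ∧ N.map ρ ≠ ⊥
  · obtain ⟨N, hNn, hNG, hNp, hN1⟩ := hN
    set W := fixedMod ((N.map ρ : Subgroup _) : Set (LinearMap.GeneralLinearGroup (ZMod p) M)) ⊥ with hW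
    have hfix : ∀ w, w ∈ W ↔ ∀ q ∈ N, alpha (ρ q) w = 0 := fun w => by
      rw [hW, mem_fixedMod]
      exact ⟨fun h q hq => (Submodule.mem_bot _).1 (h _ ⟨q, hq, rfl⟩),
        fun h u ⟨q, hq, e⟩ => e ▸ (Submodule.mem_bot _).2 (h q hq)⟩
    have hinv : ∀ g, ∀ w ∈ W, (ρ g : M →ₗ[ZMod p] M) w ∈ W := by
      intro g w hw
      rw [hfix] at hw ⊢
      intro q hq
      have h1 := hw (g⁻¹ * q * g) (by simpa using hNn.conj_mem q hq g⁻¹)
      have e : alpha (ρ q) * (ρ g : M →ₗ[ZMod p] M) =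
          (ρ g : M →ₗ[ZMod p] M) * alpha (ρ (g⁻¹ * q * g)) := by
        simp only [CfsgLib.QuadPair.alpha, map_mul, map_inv, sub_mul, mul_sub, one_mul, mul_one, Units.val_mul, ← mul_assoc,
          Units.mul_inv]
      rw [← Module.End.mul_apply, e, Module.End.mul_apply, h1, map_zero]
    obtain ⟨q₀, hq₀, hq₁⟩ : ∃ q ∈ N, ρ q ≠ 1 := by
      by_contra h
      push Not at h
      exact hN1 (Subgroup.eq_bot_iff_forall _ |>.2 fun x ⟨q, hq, e⟩ => e ▸ h q hq)
    obtain ⟨m₀, hm₀⟩ : ∃ m, m ∉ W := by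
      by_contra h
      push Not at h
      exact hq₁ (eq_one_of_alpha (LinearMap.ext fun m => (hfix m).1 (h m) q₀ hq₀))
    obtain ⟨w₀, hw₀, hw₀0⟩ : ∃ w ∈ W, w ≠ 0 := by
      haveI : Nontrivial M := ⟨⟨m₀, 0, fun h => hm₀ (h ▸ zero_mem W)⟩⟩
      have hpM : p ∣ Nat.card M := by
        rw [Module.natCard_eq_pow_finrank (K := ZMod p), Nat.card_zmod]
        exact dvd_pow_self p (Module.finrank_pos (R := ZMod p) (M := M)).ne'
      have h0 : (0 : M) ∈ MulAction.fixedPoints (N.map ρ) M := fun u =>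
        map_zero ((u : LinearMap.GeneralLinearGroup (ZMod p) M) : M →ₗ[ZMod p] M)
      obtain ⟨w, hw, hne⟩ := hNp.exists_fixed_point_of_prime_dvd_card_of_fixed_point M hpM h0
      refine ⟨w, (hfix w).2 fun q hq => ?_, hne.symm⟩
      have h5 : (ρ q : M →ₗ[ZMod p] M) w = w := hw ⟨ρ q, q, hq, rfl⟩
      show (ρ q : M →ₗ[ZMod p] M) w - w = 0
      rw [h5, sub_self]
    haveI : Finite (M ⧸ W) := Finite.of_surjective W.mkQ W.mkQ_surjective
    have hcard : Nat.card M = Nat.card (M ⧸ W) * Nat.card W := by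
      rw [mul_comm]; exact Submodule.card_eq_card_quotient_mul_card W
    have hW1 : 1 < Nat.card W := by
      haveI : Nontrivial W := ⟨⟨⟨w₀, hw₀⟩, 0, fun h => hw₀0 (congrArg Subtype.val h)⟩⟩
      exact Finite.one_lt_card
    have hQ1 : 1 < Nat.card (M ⧸ W) := by
      haveI : Nontrivial (M ⧸ W) :=
        ⟨⟨Submodule.Quotient.mk m₀, 0, fun h => hm₀ ((Submodule.Quotient.mk_eq_zero W).1 h)⟩⟩
      exact Finite.one_lt_card
    by_cases hb1 : ∀ N' : Subgroup Γ, N'.Normal → N' ≤ G → IsPGroup p (N'.map (subRep ρ W hinv)) → a ∉ N'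
    · refine ih (Nat.card W) ?_ W rfl _ (LinearMap.ext fun w => Subtype.ext ?_) hb1
      · rw [← hM, hcard]; exact lt_mul_of_one_lt_left (by omega) hQ1
      · rw [Module.End.mul_apply, subRep_alpha, subRep_alpha, ← Module.End.mul_apply, hq]; rfl
    by_cases hb2 : ∀ N' : Subgroup Γ, N'.Normal → N' ≤ G → IsPGroup p (N'.map (quotRep ρ W hinv)) → a ∉ N'
    · refine ih (Nat.card (M ⧸ W)) ?_ (M ⧸ W) rfl _ (Submodule.linearMap_qext _ (LinearMap.ext fun m => ?_)) hb2
      · rw [← hM, hcard]; exact lt_mul_of_one_lt_right (by omega) hW1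
      · show alpha (quotRep ρ W hinv a) (alpha (quotRep ρ W hinv a) (Submodule.Quotient.mk m)) = _
        rw [quotRep_alpha, quotRep_alpha, ← Module.End.mul_apply, hq]
        rfl
    push Not at hb1 hb2
    obtain ⟨N1, hN1n, hN1G, hN1p, ha1⟩ := hb1
    obtain ⟨N2, hN2n, hN2G, hN2p, ha2⟩ := hb2
    haveI := hN1n
    haveI := hN2n
    exfalso
    refine hbad (N1 ⊓ N2) inferInstance (inf_le_left.trans hN1G) ?_ ⟨ha1, ha2⟩
    rintro ⟨_, x, hx, rfl⟩
    obtain ⟨i, hi⟩ := hN1p ⟨_, x, hx.1, rfl⟩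
    obtain ⟨j, hj⟩ := hN2p ⟨_, x, hx.2, rfl⟩
    have hi' : subRep ρ W hinv (x ^ p ^ (i + j)) = 1 := by
      have h5 := congrArg Subtype.val hi
      rw [SubgroupClass.coe_pow] at h5
      rw [map_pow, pow_add, pow_mul]
      exact (congrArg (· ^ p ^ j) h5).trans (one_pow _)
    have hj' : quotRep ρ W hinv (x ^ p ^ (i + j)) = 1 := by
      have h5 := congrArg Subtype.val hj
      rw [SubgroupClass.coe_pow] at h5
      rw [map_pow, add_comm, pow_add, pow_mul]
      exact (congrArg (· ^ p ^ i) h5).trans (one_pow _)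
    set y := x ^ p ^ (i + j) with hy
    have hyW : ∀ m, alpha (ρ y) m ∈ W := fun m => (Submodule.Quotient.mk_eq_zero W).1 (by
      rw [← quotRep_alpha ρ W hinv, hj', alpha_one, LinearMap.zero_apply])
    have hyw : ∀ w ∈ W, alpha (ρ y) w = 0 := fun w hw => by
      rw [← subRep_alpha ρ W hinv y ⟨w, hw⟩, hi', alpha_one]; rfl
    have hsq : alpha (ρ y) * alpha (ρ y) = 0 := LinearMap.ext fun m => by
      rw [Module.End.mul_apply, hyw _ (hyW m), LinearMap.zero_apply]
    refine ⟨i + j + 1, Subtype.ext ?_⟩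
    rw [SubgroupClass.coe_pow, pow_succ p (i + j), pow_mul]
    show (ρ x ^ p ^ (i + j)) ^ p = 1
    rw [← map_pow]
    exact pow_char_eq_one_of_cube (by omega) (by rw [hsq, zero_mul])
  push Not at hN
  set H := G.map ρ with hH
  set A' := A.map ρ
  have hHn : ∀ g, ρ g ∈ Subgroup.normalizer (H : Set (LinearMap.GeneralLinearGroup (ZMod p) M)) := fun g =>
    Subgroup.le_normalizer_map ρ ⟨g, by rw [Subgroup.normalizer_eq_top]; exact Subgroup.mem_top g, rfl⟩
  have hO : Cfsg.pCore p ↥H = ⊥ := by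
    set Q := (Cfsg.pCore p ↥H).map H.subtype with hQ
    set N := G ⊓ Q.comap ρ
    haveI : N.Normal := ⟨fun x hx g => ⟨Subgroup.Normal.conj_mem inferInstance x hx.1 g, by
      show ρ (g * x * g⁻¹) ∈ Q
      rw [map_mul, map_mul, map_inv]
      exact conj_mem_pCore (hHn g) hx.2⟩⟩
    have hNQ : N.map ρ = Q := le_antisymm (by rintro _ ⟨x, hx, rfl⟩; exact hx.2) (by
      intro z hz
      obtain ⟨x, hx, rfl⟩ := (Subgroup.map_subtype_le _) hz
      exact ⟨x, ⟨hx, hz⟩, rfl⟩)
    have hQp : IsPGroup p Q := (CfsgLib.Coprime.pCore_isPGroup p).map _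
    have := hN N inferInstance inf_le_left (hNQ.symm ▸ hQp)
    rw [hNQ, hQ] at this
    exact (Subgroup.map_eq_bot_iff_of_injective _ H.subtype_injective).1 this
  have hne : alpha (ρ a) ≠ 0 := fun h => by
    refine hbad (G ⊓ ρ.ker) inferInstance inf_le_left ?_ ⟨ha, eq_one_of_alpha h⟩
    rw [show (G ⊓ ρ.ker).map ρ = ⊥ from (Subgroup.map_eq_bot_iff _).2 inf_le_right]
    exact IsPGroup.of_bot
  have hquad : ρ a ∈ quadraticElements H := by
    refine ⟨⟨a, ha, rfl⟩, ⟨hq, hne⟩, ?_⟩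
    rintro τ ⟨c, hc⟩
    have key : ∀ m : ℕ, ((ρ a ^ m : LinearMap.GeneralLinearGroup (ZMod p) M) : M →ₗ[ZMod p] M) =
        1 + (m : ZMod p) • alpha (ρ a) := by
      intro m
      induction m with
      | zero => simp
      | succ m ihm =>
        rw [pow_succ, Units.val_mul, ihm, alpha_add_one (ρ a), add_mul, mul_add, one_mul, mul_add, mul_one,
          smul_mul_assoc, hq, smul_zero, add_zero, Nat.cast_succ, add_smul, one_smul, one_mul]
        abel
    have : τ = ρ a ^ c.val := Units.ext (by rw [hc, key, ZMod.natCast_zmod_val]; rfl)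
    rw [this]
    exact pow_mem (⟨a, ha, rfl⟩ : ρ a ∈ H) _
  have S : Setting p (ZMod p) := ⟨Fact.out, hp5, inferInstance⟩
  have hA' : A' ≤ Subgroup.normalizer (H : Set (LinearMap.GeneralLinearGroup (ZMod p) M)) := by
    rintro _ ⟨b, -, rfl⟩; exact hHn b
  have hcop' : (Nat.card A').Coprime (Nat.card H) :=
    (hcop.coprime_dvd_left (Subgroup.card_map_dvd A ρ)).coprime_dvd_right (Subgroup.card_map_dvd G ρ)
  obtain ⟨φ, hφH, hφA, hφker⟩ := exists_fixed_hom S hO ⟨_, hquad⟩ hA' hcop'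
  have hsolv : Group.IsSolvable A := by
    refine CfsgLib.FT.isSolvable_of_odd A (Nat.not_even_iff_odd.1 fun he => ?_)
    obtain ⟨σ₀, hσ₀⟩ := exists_minimal ⟨_, hquad⟩
    have h5 := Nat.eq_one_of_dvd_coprimes hcop (even_iff_two_dvd.1 he)
      ((two_dvd_card S hO hσ₀).trans (Subgroup.card_map_dvd G ρ))
    omega
  set C := G ⊓ Subgroup.centralizer (A : Set Γ)
  have hφC : ∀ x, φ x ∈ C.map ρ := by
    intro x
    obtain ⟨g, hg, hgx⟩ := hφH x
    haveI : (G ⊓ ρ.ker).Normal := inferInstance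
    obtain ⟨z, hz, hzc⟩ := CfsgLib.Coprime.exists_fixed_in_coset (A := A) (N := G ⊓ ρ.ker) (k := g)
      (by rw [Subgroup.normalizer_eq_top]; exact le_top)
      (hcop.coprime_dvd_right (Subgroup.card_dvd_of_le inf_le_left)) (Or.inl hsolv)
      (by rw [Subgroup.normalizer_eq_top]; exact Subgroup.mem_top g)
      (fun b hb => Subgroup.mem_inf.2 ⟨mul_mem (Subgroup.Normal.conj_mem inferInstance g hg b) (inv_mem hg), by
        rw [MonoidHom.mem_ker, map_mul, map_mul, map_mul, map_inv, map_inv, hgx,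
          hφA (ρ b) ⟨b, hb, rfl⟩ x]
        group⟩)
    refine ⟨g * z, ⟨mul_mem hg hz.1, hzc⟩, ?_⟩
    rw [map_mul, MonoidHom.mem_ker.1 hz.2, mul_one, hgx]
  refine CfsgLib.Fusion.involves_of_surjective (ρ.subgroupMap C) (ρ.subgroupMap_surjective C) ?_
  exact involves_psl_of_hom (φ.codRestrict _ hφC) (by rw [MonoidHom.ker_codRestrict]; exact hφker)

/-- **A quadratic element outside the `p`-core gives a section `PSL₂(p)` of the fixed points.** -/
theorem involves_fixed_of_quadratic (hp5 : 5 ≤ p) (G A : Subgroup Γ) [G.Normal]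
    (hcop : (Nat.card A).Coprime (Nat.card G)) {a : Γ} (ha : a ∈ G) {M : Type v} [AddCommGroup M]
    [Module (ZMod p) M] [Finite M] (ρ : Γ →* LinearMap.GeneralLinearGroup (ZMod p) M)
    (hq : alpha (ρ a) * alpha (ρ a) = 0)
    (hbad : ∀ N : Subgroup Γ, N.Normal → N ≤ G → IsPGroup p (N.map ρ) → a ∉ N) :
    Cfsg.Involves (Matrix.ProjectiveSpecialLinearGroup (Fin 2) (ZMod p))
      ↥(G ⊓ Subgroup.centralizer (A : Set Γ)) :=
  involves_fixed_aux hp5 G A hcop ha _ M rfl ρ hq hbad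

end CfsgLib.CoprimeQuad
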