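import Cfsg.Agent.Lib.QuadPair.Pure
import Cfsg.Agent.Lib.QuadPair.Centralizing
import Cfsg.Agent.Lib.Qd.Unstable

/-!
# Minimal quadratic elements of a finite linear group with trivial `p`-core

No irreducibility is assumed.
-/

set_option autoImplicit false
set_option linter.style.haveILetI false

namespace CfsgLib.CoprimeQuad

open Cfsg CfsgLib.QuadPair

variable {k : Type*} [Field k] {M : Type*} [AddCommGroup M] [Module k M] [FiniteDimensional k M]
variable {H : Subgroup (LinearMap.GeneralLinearGroup k M)} {σ τ : LinearMap.GeneralLinearGroup k M}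

omit [FiniteDimensional k M] in
theorem eq_one_of_alpha {u : LinearMap.GeneralLinearGroup k M} (h : alpha u = 0) : u = 1 :=
  Units.ext (by rw [alpha_add_one u, h, add_zero]; rfl)

omit [FiniteDimensional k M] in
theorem ne_one_of_min (hσ : σ ∈ minimalQuadraticElements H) : σ ≠ 1 := fun h =>
  alpha_ne_zero hσ (by rw [h, alpha_one])

omit [FiniteDimensional k M] in
theorem exists_minimal (h : (quadraticElements H).Nonempty) : (minimalQuadraticElements H).Nonempty := by
  obtain ⟨σ, hσ, hmin⟩ := (InvImage.wf commutatorRank wellFounded_lt).has_min _ h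
  exact ⟨σ, hσ, fun τ hτ => not_lt.1 (hmin τ hτ)⟩

/-! ### Conjugation by the normalizer -/

omit [FiniteDimensional k M] in
theorem conj_mem_quadratic' {g x : LinearMap.GeneralLinearGroup k M}
    (hg : g ∈ Subgroup.normalizer (H : Set (LinearMap.GeneralLinearGroup k M)))
    (hx : x ∈ quadraticElements H) : g * x * g⁻¹ ∈ quadraticElements H := by
  have hT := conj_mem_quadratic (G := ⊤) (Subgroup.mem_top g)
    (⟨Subgroup.mem_top x, hx.2.1, fun _ _ => Subgroup.mem_top _⟩ : x ∈ quadraticElements ⊤)
  refine ⟨(Subgroup.mem_normalizer_iff.1 hg x).1 hx.1, hT.2.1, ?_⟩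
  rintro u ⟨c, hc⟩
  have h2 : g⁻¹ * u * g ∈ scalarFamily x := ⟨c, by
    rw [Units.val_mul, Units.val_mul, hc]
    show ((g⁻¹ : LinearMap.GeneralLinearGroup k M) : M →ₗ[k] M) * (1 + c • alpha (g * x * g⁻¹)) *
      (g : M →ₗ[k] M) = 1 + c • alpha x
    rw [alpha_conj, mul_add, add_mul, mul_one, Units.inv_mul, mul_smul_comm, smul_mul_assoc]
    congr 2
    simp only [← mul_assoc, Units.inv_mul, one_mul]
    rw [mul_assoc, Units.inv_mul, mul_one]⟩
  have h3 := (Subgroup.mem_normalizer_iff.1 hg _).1 (hx.2.2 h2)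
  rwa [show g * (g⁻¹ * u * g) * g⁻¹ = u by group] at h3

theorem conj_mem_minimal' {g x : LinearMap.GeneralLinearGroup k M}
    (hg : g ∈ Subgroup.normalizer (H : Set (LinearMap.GeneralLinearGroup k M)))
    (hx : x ∈ minimalQuadraticElements H) : g * x * g⁻¹ ∈ minimalQuadraticElements H :=
  ⟨conj_mem_quadratic' hg hx.1, fun t ht => by rw [commutatorRank_conj]; exact hx.2 t ht⟩

theorem conjBy_sameAction' {g x : LinearMap.GeneralLinearGroup k M}
    (hg : g ∈ Subgroup.normalizer (H : Set (LinearMap.GeneralLinearGroup k M))) :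
    conjBy (sameActionSubgroup H x) g = sameActionSubgroup H (g * x * g⁻¹) := by
  have key : ∀ {g x y : LinearMap.GeneralLinearGroup k M},
      g ∈ Subgroup.normalizer (H : Set (LinearMap.GeneralLinearGroup k M)) →
      y ∈ sameActionClass H x → g * y * g⁻¹ ∈ sameActionClass H (g * x * g⁻¹) := by
    intro g x y hg hy
    refine ⟨conj_mem_minimal' hg hy.1, ?_, ?_⟩
    · have h : LinearMap.ker (alpha y) = LinearMap.ker (alpha x) := hy.2.1
      show LinearMap.ker (alpha (g * y * g⁻¹)) = LinearMap.ker (alpha (g * x * g⁻¹))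
      ext m
      rw [mem_ker_alpha_conj, mem_ker_alpha_conj, h]
    · have h : LinearMap.range (alpha y) = LinearMap.range (alpha x) := hy.2.2
      show LinearMap.range (alpha (g * y * g⁻¹)) = LinearMap.range (alpha (g * x * g⁻¹))
      rw [range_alpha_conj, range_alpha_conj, h]
  rw [conjBy, sameActionSubgroup, MonoidHom.map_closure]
  refine congrArg Subgroup.closure (Set.ext fun y => ⟨?_, fun hy => ?_⟩)
  · rintro ⟨z, hz, rfl⟩
    exact key hg hz
  · refine ⟨g⁻¹ * y * g, ?_, by simp [mul_assoc]⟩
    have h := key (inv_mem hg) hy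
    rwa [inv_inv, show g⁻¹ * (g * x * g⁻¹) * g = x by group] at h

/-- Two root subgroups lie in one class when `H` conjugates one into the other. -/
def SameClass (H : Subgroup (LinearMap.GeneralLinearGroup k M))
    (E F : Subgroup (LinearMap.GeneralLinearGroup k M)) : Prop :=
  ∃ h ∈ H, F = conjBy E h

omit [FiniteDimensional k M] in
theorem SameClass.refl (E : Subgroup (LinearMap.GeneralLinearGroup k M)) : SameClass H E E :=
  ⟨1, one_mem H, (conjBy_one E).symm⟩

omit [FiniteDimensional k M] in
theorem SameClass.symm {E F : Subgroup (LinearMap.GeneralLinearGroup k M)} (h : SameClass H E F) :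
    SameClass H F E := by
  obtain ⟨g, hg, rfl⟩ := h
  exact ⟨g⁻¹, inv_mem hg, by rw [conjBy_conjBy, inv_mul_cancel, conjBy_one]⟩

omit [FiniteDimensional k M] in
theorem SameClass.trans {E F D : Subgroup (LinearMap.GeneralLinearGroup k M)} (h : SameClass H E F)
    (h' : SameClass H F D) : SameClass H E D := by
  obtain ⟨g, hg, rfl⟩ := h
  obtain ⟨g', hg', rfl⟩ := h'
  exact ⟨g' * g, mul_mem hg' hg, by rw [conjBy_conjBy]⟩

omit [FiniteDimensional k M] in
theorem SameClass.conj {E F : Subgroup (LinearMap.GeneralLinearGroup k M)} (h : SameClass H E F)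
    {a : LinearMap.GeneralLinearGroup k M}
    (ha : a ∈ Subgroup.normalizer (H : Set (LinearMap.GeneralLinearGroup k M))) :
    SameClass H (conjBy E a) (conjBy F a) := by
  obtain ⟨g, hg, rfl⟩ := h
  exact ⟨a * g * a⁻¹, (Subgroup.mem_normalizer_iff.1 ha g).1 hg, by
    rw [conjBy_conjBy, conjBy_conjBy, inv_mul_cancel_right]⟩

variable (h2 : (2 : k) ≠ 0) (h3 : Nat.card k ≠ 3)
include h2 h3

/-- An invertible pair lies in one class. -/
theorem sameClass_of_sep (hσ : σ ∈ minimalQuadraticElements H) (hτ : τ ∈ minimalQuadraticElements H)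
    {f : Polynomial k} (hf : IsSepPair (alpha σ) (alpha τ) f) :
    SameClass H (sameActionSubgroup H σ) (sameActionSubgroup H τ) := by
  obtain ⟨v, hv, e1, e2, hv1⟩ := hf.exists_opposite h2 h3 hσ hτ
  have h := conjBy_swap h2 h3 hσ hτ (self_mem_sameAction hσ) hv (ne_one_of_min hσ) hv1 e1 e2
  refine ⟨σ * v⁻¹, mul_mem hσ.1.1 (inv_mem (sameAction_le hτ hv)), ?_⟩
  rw [← conjBy_conjBy (sameActionSubgroup H σ) v⁻¹ σ, h, conjBy_conjBy, mul_inv_cancel, conjBy_one]

theorem nil_of_not_sameClass (hσ : σ ∈ minimalQuadraticElements H) (hτ : τ ∈ minimalQuadraticElements H)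
    (h : ¬ SameClass H (sameActionSubgroup H σ) (sameActionSubgroup H τ)) :
    IsNilPair (alpha σ) (alpha τ) :=
  (dichotomy_root h2 h3 hσ hτ).resolve_right fun ⟨_, hf⟩ => h (sameClass_of_sep h2 h3 hσ hτ hf)

omit h2 h3

omit [FiniteDimensional k M] in
theorem pow_eq_one_of_alpha_pow {p : ℕ} [Fact p.Prime] [CharP k p] {u : LinearMap.GeneralLinearGroup k M}
    {e : ℕ} (h : alpha u ^ p ^ e = 0) : u ^ p ^ e = 1 := by
  refine Units.ext ?_
  rcases subsingleton_or_nontrivial (Module.End k M) with hs | hn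
  · exact Subsingleton.elim _ _
  haveI : CharP (Module.End k M) p :=
    charP_of_injective_algebraMap (algebraMap k (Module.End k M)).injective p
  rw [Units.val_pow_eq_pow_val, alpha_add_one u, add_pow_char_pow_of_commute _ _ (Commute.one_left _),
    one_pow, h, add_zero]
  rfl

omit [FiniteDimensional k M] in
theorem pow_char_eq_one_of_cube {p : ℕ} [Fact p.Prime] [CharP k p] (hp : 3 ≤ p)
    {u : LinearMap.GeneralLinearGroup k M} (h : alpha u * alpha u * alpha u = 0) : u ^ p = 1 := by
  have h3 : alpha u ^ 3 = 0 := by rw [pow_succ, pow_succ, pow_one, h]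
  have := pow_eq_one_of_alpha_pow (p := p) (u := u) (e := 1) (by
    rw [pow_one]; exact pow_eq_zero_of_le hp h3)
  rwa [pow_one] at this

/-- The hypotheses on the field. -/
structure Setting (p : ℕ) (k : Type*) [Field k] : Prop where
  prime : p.Prime
  five_le : 5 ≤ p
  char : CharP k p

theorem Setting.two_ne {p : ℕ} (S : Setting p k) : (2 : k) ≠ 0 := fun h => by
  haveI := S.char
  have h' : ((2 : ℕ) : k) = 0 := by exact_mod_cast h
  have := Nat.le_of_dvd (by omega) ((CharP.cast_eq_zero_iff k p 2).1 h')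
  have := S.five_le
  omega

theorem Setting.card_ne {p : ℕ} (S : Setting p k) : Nat.card k ≠ 3 := fun h => by
  haveI := S.char
  haveI : Finite k := Nat.finite_of_card_ne_zero (by rw [h]; norm_num)
  have h1 : Function.Injective (fun i : Fin 4 => ((i : ℕ) : k)) := fun i j hij => by
    have hj := CharP.natCast_injOn_Iio k p
    have := S.five_le
    exact Fin.ext (hj (show (i : ℕ) ∈ Set.Iio p from by simp; omega)
      (show (j : ℕ) ∈ Set.Iio p from by simp; omega) hij)
  have := Nat.card_le_card_of_injective _ h1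
  simp at this
  omega

variable [Finite k] {p : ℕ}

omit [FiniteDimensional k M] in
theorem finite_gl [Module.Finite k M] : Finite (LinearMap.GeneralLinearGroup k M) :=
  haveI : Finite (M →ₗ[k] M) := Module.finite_of_finite k
  inferInstance

/-- **Every minimal element has a partner among its conjugates.** -/
theorem exists_partner_of_core (S : Setting p k) (hO : Cfsg.pCore p ↥H = ⊥)
    (hσ : σ ∈ minimalQuadraticElements H) :
    ∃ g ∈ H, ∃ f, IsSepPair (alpha σ) (alpha (g * σ * g⁻¹)) f := by
  haveI := finite_gl (k := k) (M := M)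
  haveI : Fact p.Prime := ⟨S.prime⟩
  haveI := S.char
  have hnot : (⟨σ, hσ.1.1⟩ : H) ∉ Cfsg.pCore p ↥H := by
    rw [hO, Subgroup.mem_bot]
    exact fun e => ne_one_of_min hσ (congrArg Subtype.val e)
  obtain ⟨x, y, hy, hye⟩ :=
    CfsgLib.Qd.exists_pair_of_not_mem (MonoidHom.id ↥H) Function.surjective_id hnot
  refine ⟨x, x.2, (dichotomy_root S.two_ne S.card_ne hσ (conj_mem_minimal x.2 hσ)).resolve_left
    fun hn => ?_⟩
  have hu := unipotent_of_triple_zero (sq_of_min hσ) (sq_of_min (conj_mem_minimal x.2 hσ)) hn.1 hn.2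
  have hy' : (y : LinearMap.GeneralLinearGroup k M) ∈
      Subgroup.closure (scalarFamily σ ∪ scalarFamily ((x : LinearMap.GeneralLinearGroup k M) * σ *
        (x : LinearMap.GeneralLinearGroup k M)⁻¹)) := by
    have := Subgroup.mem_map_of_mem H.subtype hy
    rw [MonoidHom.map_closure, Set.image_pair] at this
    refine Subgroup.closure_mono ?_ this
    intro z hz
    rcases hz with h | h <;> rw [h]
    · exact Or.inl (self_mem_scalarFamily σ)
    · exact Or.inr (self_mem_scalarFamily _)
  obtain ⟨n, hn'⟩ := (unipotent_iff _).1 hu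
  refine hye n (Subtype.ext ?_)
  show ((y ^ p ^ n : H) : LinearMap.GeneralLinearGroup k M) = 1
  rw [SubgroupClass.coe_pow]
  refine pow_eq_one_of_alpha_pow (pow_eq_zero_of_le (Nat.lt_pow_self S.prime.one_lt).le ?_)
  have h0 := hn' (List.replicate n (y : LinearMap.GeneralLinearGroup k M))
    (fun g hg => by rw [List.eq_of_mem_replicate hg]; exact hy') List.length_replicate
  rwa [List.map_replicate, List.prod_replicate] at h0

/-- An element opposite to a given one. -/
theorem exists_opposite_of_core (S : Setting p k) (hO : Cfsg.pCore p ↥H = ⊥)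
    (hσ : σ ∈ minimalQuadraticElements H) :
    ∃ v ∈ minimalQuadraticElements H, alpha σ * alpha v * alpha σ = alpha σ ∧
      alpha v * alpha σ * alpha v = alpha v := by
  obtain ⟨g, hg, f, hf⟩ := exists_partner_of_core S hO hσ
  have hτ := conj_mem_minimal hg hσ
  obtain ⟨v, hv, e1, e2, hv1⟩ := hf.exists_opposite S.two_ne S.card_ne hσ hτ
  exact ⟨v, (sameAction_eq_of_mem hτ hv hv1).1, e1, e2⟩

end CfsgLib.CoprimeQuad
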