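import Cfsg.Agent.Lib.CFun.CoprimeQuad.Linear
import Cfsg.Agent.Lib.Qd.Unstable
import Cfsg.Agent.Lib.Invol.PConstrained
import Cfsg.Agent.Lib.Fusion.PrimeCoreQuotient
import Mathlib.Algebra.Module.ZMod

/-!
# `Z(J)` factorization under coprime operators
-/

set_option autoImplicit false
set_option linter.style.haveILetI false

open scoped commutatorElement
open Subgroup

namespace CfsgLib.CoprimeQuad

universe u

variable {p : ℕ} [Fact p.Prime]

section AutGL

variable {V : Type u} [CommGroup V] [Module (ZMod p) (Additive V)]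

/-- An automorphism of an elementary abelian group as a linear map. -/
def autLin (e : MulAut V) : Additive V →ₗ[ZMod p] Additive V :=
  (MonoidHom.toAdditive e.toMonoidHom).toZModLinearMap p

/-- Automorphisms of an elementary abelian group as linear automorphisms. -/
def autGL : MulAut V →* LinearMap.GeneralLinearGroup (ZMod p) (Additive V) :=
  MonoidHom.toHomUnits
    { toFun := autLin
      map_one' := LinearMap.ext fun _ => rfl
      map_mul' := fun _ _ => LinearMap.ext fun _ => rfl }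

theorem autGL_apply (e : MulAut V) (v : V) :
    ((autGL (p := p) e : LinearMap.GeneralLinearGroup (ZMod p) (Additive V)) :
      Additive V →ₗ[ZMod p] Additive V) (Additive.ofMul v) = Additive.ofMul (e v) := rfl

theorem eq_one_of_autGL {e : MulAut V} (h : autGL (p := p) e = 1) : e = 1 := by
  refine MulEquiv.ext fun v => Additive.ofMul.injective ?_
  rw [← autGL_apply (p := p), h]
  rfl

theorem autGL_alpha (e : MulAut V) (v : V) :
    QuadPair.alpha (autGL (p := p) e) (Additive.ofMul v) = Additive.ofMul (e v * v⁻¹) := by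
  rw [QuadPair.alpha, LinearMap.sub_apply, autGL_apply, Module.End.one_apply, ofMul_mul, ofMul_inv,
    ← sub_eq_add_neg]

theorem autGL_sq {e : MulAut V} (h : ∀ v, e (e v * v⁻¹) * (e v * v⁻¹)⁻¹ = 1) :
    QuadPair.alpha (autGL (p := p) e) * QuadPair.alpha (autGL (p := p) e) = 0 := by
  refine LinearMap.ext fun w => ?_
  obtain ⟨v, rfl⟩ := Additive.ofMul.surjective w
  rw [Module.End.mul_apply, autGL_alpha, autGL_alpha, h, LinearMap.zero_apply, ofMul_one]

end AutGL

theorem alpha_pow_of_sq {k : Type*} [Field k] {M : Type*} [AddCommGroup M] [Module k M]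
    {u : LinearMap.GeneralLinearGroup k M} (h : QuadPair.alpha u * QuadPair.alpha u = 0) :
    ∀ n : ℕ, QuadPair.alpha (u ^ n) = (n : k) • QuadPair.alpha u
  | 0 => by simp [QuadPair.alpha_one]
  | n + 1 => by
    rw [pow_succ, QuadPair.alpha_mul, alpha_pow_of_sq h n, smul_mul_assoc, h, smul_zero, zero_add,
      Nat.cast_succ, add_smul, one_smul]

variable {Γ : Type u} [Group Γ] [Finite Γ]

/-- A quadratic automorphism of an elementary abelian group has order dividing `p`. -/
theorem quadratic_aut_pow (hp5 : 5 ≤ p) {V : Type u} [CommGroup V] (hVp : ∀ v : V, v ^ p = 1) {e : MulAut V}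
    (h : ∀ v, e (e v * v⁻¹) * (e v * v⁻¹)⁻¹ = 1) : e ^ p = 1 := by
  have hVadd : ∀ v : Additive V, p • v = 0 := fun v => congrArg Additive.ofMul (hVp (Additive.toMul v))
  haveI : Module (ZMod p) (Additive V) := AddCommGroup.zmodModule hVadd
  refine eq_one_of_autGL (p := p) ?_
  rw [map_pow]
  exact pow_char_eq_one_of_cube (by omega) (by rw [autGL_sq h, zero_mul])

/-- The linear criterion for an action on an elementary abelian group. -/
theorem involves_of_quadratic_aut (hp5 : 5 ≤ p) (G A : Subgroup Γ) [G.Normal]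
    (hcop : (Nat.card A).Coprime (Nat.card G)) {V : Type u} [CommGroup V] [Finite V] (hVp : ∀ v : V, v ^ p = 1)
    (θ : Γ →* MulAut V) {b : Γ} (m : ℕ) (hbG : b ^ m ∈ G)
    (h : ∀ v, θ b (θ b v * v⁻¹) * (θ b v * v⁻¹)⁻¹ = 1)
    (hbad : ∀ N : Subgroup Γ, N.Normal → N ≤ G → IsPGroup p (N.map θ) → b ^ m ∉ N) :
    Cfsg.Involves (Matrix.ProjectiveSpecialLinearGroup (Fin 2) (ZMod p))
      ↥(G ⊓ centralizer (A : Set Γ)) := by
  have hVadd : ∀ v : Additive V, p • v = 0 := fun v => congrArg Additive.ofMul (hVp (Additive.toMul v))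
  haveI : Module (ZMod p) (Additive V) := AddCommGroup.zmodModule hVadd
  haveI : Module.Finite (ZMod p) (Additive V) := Module.Finite.of_finite
  let ρ : Γ →* LinearMap.GeneralLinearGroup (ZMod p) (Additive V) := (autGL (p := p)).comp θ
  refine involves_fixed_of_quadratic hp5 G A hcop hbG ρ ?_ fun N hNn hNG hNp => hbad N hNn hNG ?_
  · have hs : QuadPair.alpha (ρ b) * QuadPair.alpha (ρ b) = 0 := autGL_sq h
    rw [map_pow, alpha_pow_of_sq hs, smul_mul_assoc, mul_smul_comm]
    show _ • _ • (QuadPair.alpha (autGL (p := p) (θ b)) * QuadPair.alpha (autGL (p := p) (θ b))) = 0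
    rw [autGL_sq h, smul_zero, smul_zero]
  · rintro ⟨_, x, hx, rfl⟩
    obtain ⟨e, he⟩ := hNp ⟨_, x, hx, rfl⟩
    refine ⟨e, Subtype.ext ?_⟩
    have h5 := congrArg Subtype.val he
    rw [SubgroupClass.coe_pow] at h5 ⊢
    refine eq_one_of_autGL (p := p) ?_
    rw [map_pow]
    exact h5

/-- A quotient is `p`-stable on its normal `p`-subgroups when the operators' fixed points avoid
`PSL₂(p)`. -/
theorem isPStableOn_of_operators (hp5 : 5 ≤ p) (G A : Subgroup Γ) [G.Normal] (htop : G ⊔ A = ⊤)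
    (hcop : (Nat.card A).Coprime (Nat.card G)) (hpG : p ∣ Nat.card G)
    (hfix : ¬ Cfsg.Involves (Matrix.ProjectiveSpecialLinearGroup (Fin 2) (ZMod p))
      ↥(G ⊓ centralizer (A : Set Γ)))
    {Q : Type u} [Group Q] [Finite Q] (π : Γ →* Q) (hπ : Function.Surjective π)
    (R : Subgroup Q) [R.Normal] (hR : IsPGroup p R) : Cfsg.IsPStableOn p R := by
  intro b hb
  by_contra hnot
  refine hfix ?_
  set Φ := (frattini R).map R.subtype with hΦ
  haveI hΦn : Φ.Normal := normalizer_eq_top_iff.1 (top_le_iff.1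
    ((normalizer_eq_top (H := R)).ge.trans (CfsgLib.PGroup.normalizer_le_normalizer_frattini R)))
  set q := QuotientGroup.mk' Φ with hq
  set V := R.map q with hV
  haveI hVn : V.Normal := Subgroup.Normal.map inferInstance q (QuotientGroup.mk'_surjective Φ)
  have hone : ∀ z : Q, z ∈ Φ → q z = 1 := fun z hz => (QuotientGroup.eq_one_iff z).2 hz
  have hVc : ∀ u v : V, u * v = v * u := by
    rintro ⟨_, x, hx, rfl⟩ ⟨_, y, hy, rfl⟩
    refine Subtype.ext ?_
    show q x * q y = q y * q x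
    rw [← commutatorElement_eq_one_iff_mul_comm, ← map_commutatorElement]
    exact hone _ ⟨⁅(⟨x, hx⟩ : R), ⟨y, hy⟩⁆, CfsgLib.Coprime.commutator_le_frattini hR
      (commutator_mem_commutator (mem_top _) (mem_top _)), rfl⟩
  have hVp : ∀ v : V, v ^ p = 1 := by
    rintro ⟨_, x, hx, rfl⟩
    refine Subtype.ext ?_
    rw [SubgroupClass.coe_pow, ← map_pow]
    exact hone _ ⟨(⟨x, hx⟩ : R) ^ p, CfsgLib.Coprime.pow_mem_frattini hR _, rfl⟩
  letI : CommGroup V := { (inferInstance : Group V) with mul_comm := hVc }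
  let θ : Γ →* MulAut V := (MulAut.conjNormal (H := V)).comp (q.comp π)
  obtain ⟨b₀, rfl⟩ := hπ b
  have hq2 : ⁅⁅V, zpowers (q (π b₀))⁆, zpowers (q (π b₀))⁆ = ⊥ := CfsgLib.Qd.quadratic_map q hb
  have hsq : ∀ v, θ b₀ (θ b₀ v * v⁻¹) * (θ b₀ v * v⁻¹)⁻¹ = 1 := by
    intro v
    refine Subtype.ext ?_
    show (MulAut.conjNormal (q (π b₀)) (MulAut.conjNormal (q (π b₀)) v * v⁻¹) *
      (MulAut.conjNormal (q (π b₀)) v * v⁻¹)⁻¹ : V).1 = 1
    set x := q (π b₀) with hx
    set c : V := MulAut.conjNormal x v * v⁻¹ with hc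
    have hcv : (c : Q ⧸ Φ) = ⁅x, (v : Q ⧸ Φ)⁆ := by
      rw [hc, Subgroup.coe_mul, Subgroup.coe_inv, MulAut.conjNormal_apply, commutatorElement_def]
    rw [Subgroup.coe_mul, Subgroup.coe_inv, MulAut.conjNormal_apply, ← commutatorElement_def, ← mem_bot, ← hq2,
      commutator_comm]
    refine commutator_mem_commutator (mem_zpowers x) ?_
    rw [hcv, commutator_comm]
    exact commutator_mem_commutator (mem_zpowers x) v.2
  set m := G.index with hm
  have hmA : m ∣ Nat.card A := by
    rw [hm, ← relIndex_top_right, ← htop, relIndex_sup_left]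
    exact relIndex_dvd_card G A
  have hpm : p.Coprime m := ((hcop.coprime_dvd_right hpG).coprime_dvd_left hmA).symm
  have hpord : θ b₀ ^ p = 1 := quadratic_aut_pow hp5 hVp hsq
  obtain ⟨j, hj⟩ := exists_pow_eq_self_of_coprime (n := m) (x := θ b₀)
    (Nat.Coprime.coprime_dvd_right (orderOf_dvd_of_pow_eq_one hpord) hpm.symm)
  refine involves_of_quadratic_aut hp5 G A hcop hVp θ m (G.pow_index_mem b₀) hsq fun N hNn hNG hNp haN => ?_
  refine hnot ?_
  haveI := hNn
  set D := N ⊔ θ.ker with hD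
  set f := (QuotientGroup.mk' (centralizer (R : Set Q))).comp π with hf
  have hfs : Function.Surjective f := (QuotientGroup.mk'_surjective _).comp hπ
  haveI : (D.map f).Normal := Subgroup.Normal.map inferInstance f hfs
  have hbD : b₀ ∈ D := by
    have h1 : θ ((b₀ ^ m) ^ j * b₀⁻¹) = 1 := by
      rw [map_mul, map_inv, map_pow, map_pow, hj, mul_inv_cancel]
    have h3 := mul_mem (inv_mem (mem_sup_right (MonoidHom.mem_ker.2 h1) : _ ∈ D))
      (mem_sup_left (pow_mem haN j) : (b₀ ^ m) ^ j ∈ D)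
    simpa using h3
  refine (CfsgLib.Coprime.le_pCore (N := D.map f) ?_) ⟨b₀, hbD, rfl⟩
  rintro ⟨_, x, hx, rfl⟩
  obtain ⟨y, hy, z, hz, rfl⟩ := Subgroup.mem_sup_of_normal_right.1 hx
  obtain ⟨e, he⟩ := hNp ⟨_, y, hy, rfl⟩
  have he' : θ ((y * z) ^ p ^ e) = 1 := by
    rw [map_pow, map_mul, MonoidHom.mem_ker.1 hz, mul_one]
    have h := congrArg Subtype.val he
    rw [SubgroupClass.coe_pow] at h
    exact h
  set w := π ((y * z) ^ p ^ e) with hw
  obtain ⟨k, l, hl, hkl⟩ :=
    Nat.exists_eq_pow_mul_and_not_dvd (orderOf_pos w).ne' p (Fact.out : p.Prime).ne_one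
  set y₀ := w ^ p ^ k with hy₀
  have hqc : ∀ v ∈ V, q w * v = v * q w := by
    intro v hv
    have h1 : MulAut.conjNormal (q w) = (1 : MulAut V) := he'
    have h2 := congrArg (fun e : MulAut V => ((e ⟨v, hv⟩ : V) : Q ⧸ Φ)) h1
    simp only [MulAut.conjNormal_apply] at h2
    exact mul_inv_eq_iff_eq_mul.1 h2
  have hcop' : (orderOf y₀).Coprime p := by
    refine Nat.Coprime.coprime_dvd_left (orderOf_dvd_of_pow_eq_one (n := l) ?_)
      ((Fact.out : p.Prime).coprime_iff_not_dvd.2 hl).symm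
    rw [hy₀, ← pow_mul, ← hkl, pow_orderOf_eq_one]
  obtain ⟨r, hr⟩ := IsPGroup.iff_card.1 (hR.to_subgroup (frattini R))
  have hc := CfsgLib.Coprime.le_centralizer_of_trivial_on_frattini_quotient (A := zpowers y₀) (K := R)
    (by rw [normalizer_eq_top]; exact le_top) (by rw [Nat.card_zpowers, hr]; exact hcop'.pow_right r)
    fun t ht v hv => by
      obtain ⟨i, rfl⟩ := mem_zpowers_iff.1 ht
      have hmem : q (y₀ ^ i) ∈ centralizer (V : Set (Q ⧸ Φ)) := by
        rw [map_zpow, hy₀, map_pow]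
        exact zpow_mem (pow_mem (mem_centralizer_iff.2 fun v hv => (hqc v hv).symm) _) i
      have h1 : q (y₀ ^ i * v * (y₀ ^ i)⁻¹ * v⁻¹) = 1 := by
        rw [map_mul, map_mul, map_mul, map_inv, map_inv, ← mem_centralizer_iff.1 hmem (q v) ⟨v, hv, rfl⟩,
          mul_inv_cancel_right, mul_inv_cancel]
      exact (QuotientGroup.eq_one_iff _).1 h1
  refine ⟨e + k, Subtype.ext ?_⟩
  rw [SubgroupClass.coe_pow]
  show f (y * z) ^ p ^ (e + k) = 1
  rw [← map_pow, pow_add, pow_mul, hf, MonoidHom.comp_apply, map_pow π, ← hw, ← hy₀]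
  exact (QuotientGroup.eq_one_iff _).2 (hc (mem_zpowers y₀))

/-- **`Z(J)` factorization with coprime operators.** -/
theorem zj_normal_of_operators (hp5 : 5 ≤ p) (G A : Subgroup Γ) [G.Normal] (htop : G ⊔ A = ⊤)
    (hcop : (Nat.card A).Coprime (Nat.card G)) (hpG : p ∣ Nat.card G)
    (hG : CfsgLib.Invol.PCons p ↥G)
    (hfix : ¬ Cfsg.Involves (Matrix.ProjectiveSpecialLinearGroup (Fin 2) (ZMod p))
      ↥(G ⊓ centralizer (A : Set Γ))) (S : Sylow p Γ) :
    (Cfsg.pPrimeCore p Γ ⊔ Cfsg.centerThompsonAOf (S : Subgroup Γ)).Normal := by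
  have hp := (Fact.out : p.Prime)
  set K := Cfsg.pPrimeCore p Γ with hK
  set π := QuotientGroup.mk' K with hπ
  have hπs := QuotientGroup.mk'_surjective K
  set Z := Cfsg.centerThompsonAOf (S : Subgroup Γ) with hZdef
  set Gb := G.map π with hGb
  haveI : Gb.Normal := Subgroup.Normal.map inferInstance π hπs
  have hidx : (Gb.index).Coprime p := by
    refine Nat.Coprime.coprime_dvd_left ((G.index_map_dvd hπs).trans ?_) (hcop.coprime_dvd_right hpG)
    rw [← relIndex_top_right, ← htop, relIndex_sup_left]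
    exact relIndex_dvd_card G A
  have hclean : CfsgLib.Invol.PClean p ↥Gb := by
    set f := π.subgroupMap G with hf
    have hfs : Function.Surjective f := π.subgroupMap_surjective G
    have hker : Cfsg.pPrimeCore p ↥G = f.ker := by
      apply Subgroup.map_injective G.subtype_injective
      rw [CfsgLib.Coprime.pPrimeCore_map_subtype_eq hp G]
      ext x
      constructor
      · intro hx
        refine ⟨⟨x, hx.2⟩, MonoidHom.mem_ker.2 (Subtype.ext ?_), rfl⟩
        exact (QuotientGroup.eq_one_iff x).2 hx.1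
      · rintro ⟨⟨y, hy⟩, hyk, rfl⟩
        exact ⟨(QuotientGroup.eq_one_iff y).1 (congrArg Subtype.val (MonoidHom.mem_ker.1 hyk)), hy⟩
    exact CfsgLib.Invol.pClean_congr
      ((QuotientGroup.quotientMulEquivOfEq hker).trans (QuotientGroup.quotientKerEquivOfSurjective f hfs)) hG
  have hcl : centralizer (Cfsg.pCore p (Γ ⧸ K) : Set (Γ ⧸ K)) ≤ Cfsg.pCore p (Γ ⧸ K) := by
    haveI := CfsgLib.Coprime.pCore_normal' (G := Γ ⧸ K) p
    set C := centralizer (Cfsg.pCore p (Γ ⧸ K) : Set (Γ ⧸ K)) with hC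
    have hZp : IsPGroup p ↥(C ⊓ Gb) := CfsgLib.Invol.isPGroup_of_coprime_trivial _ fun y hy hyc => by
      have h := hclean ⟨y, hy.2⟩ (by rwa [Subgroup.orderOf_mk]) (mem_centralizer_iff.2 fun x hx => Subtype.ext ?_)
      · exact congrArg Subtype.val h
      · refine mem_centralizer_iff.1 hy.1 _ ?_
        have h5 : (x : Γ ⧸ K) ∈ (Cfsg.pCore p ↥Gb).map Gb.subtype := ⟨x, hx, rfl⟩
        rw [CfsgLib.Coprime.pCore_map_subtype_eq p Gb] at h5
        exact h5.1
    have hZO : C ⊓ Gb ≤ Cfsg.pCore p (Γ ⧸ K) := CfsgLib.Coprime.le_pCore hZp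
    refine le_trans ?_ hZO
    set Zc := Gb.subgroupOf C with hZc
    have hZcard : Nat.card Zc = Nat.card ↥(C ⊓ Gb) := by
      rw [inf_comm, ← card_map_of_injective C.subtype_injective, hZc, subgroupOf_map_subtype]
    have hZcp : IsPGroup p Zc := by
      obtain ⟨r, hr⟩ := IsPGroup.iff_card.1 hZp
      exact IsPGroup.of_card (hZcard.trans hr)
    have hZidx : Zc.index.Coprime p := hidx.coprime_dvd_left (relIndex_dvd_index_of_normal Gb C)
    have hcopZ : (Nat.card Zc).Coprime Zc.index := by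
      obtain ⟨r, hr⟩ := IsPGroup.iff_card.1 hZcp
      rw [hr]; exact hZidx.symm.pow_left r
    obtain ⟨X, hX⟩ := exists_right_complement'_of_coprime hcopZ
    have hcentral : ∀ z ∈ Zc, ∀ x : C, z * x = x * z := fun z hz x => Subtype.ext
      ((mem_centralizer_iff.1 x.2) _ (hZO ⟨z.2, hz⟩))
    haveI : X.Normal := ⟨fun x hx c => by
      obtain ⟨⟨⟨z, hz⟩, ⟨x', hx'⟩⟩, rfl⟩ := hX.2 c
      show z * x' * x * (z * x')⁻¹ ∈ X
      rw [show z * x' * x * (z * x')⁻¹ = z * (x' * x * x'⁻¹) * z⁻¹ by group,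
        hcentral z hz, mul_inv_cancel_right]
      exact mul_mem (mul_mem hx' hx) (inv_mem hx')⟩
    have hXbot : X = ⊥ := by
      have hle : X ≤ Cfsg.pPrimeCore p ↥C := by
        refine CfsgLib.Coprime.le_pPrimeCore ?_
        rw [← hX.symm.index_eq_card]
        exact hZidx
      refine (Subgroup.map_eq_bot_iff_of_injective _ C.subtype_injective).1 (le_bot_iff.1 ?_)
      refine (Subgroup.map_mono hle).trans ?_
      rw [CfsgLib.Coprime.pPrimeCore_map_subtype_eq hp C, CfsgLib.Coprime.pPrimeCore_quotient_eq_bot hp]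
      exact inf_le_left
    intro c hc
    refine ⟨hc, ?_⟩
    have htop' : Zc = ⊤ := by
      rw [← index_eq_one, hX.symm.index_eq_card, hXbot, card_bot]
    exact (htop'.ge (mem_top (⟨c, hc⟩ : C)) : _)
  haveI hn := CfsgLib.Fusion.centerThompsonAOf_normal (show p ≠ 2 by omega) hcl
    (fun R _ hR => isPStableOn_of_operators hp5 G A htop hcop hpG hfix π hπs R hR)
    (S.mapSurjective hπs) le_rfl fun Q hQ g hg y hy => hQ ((mem_normalizer_iff.1 hg y).1 hy.2)
  have hinj : Function.Injective (π.comp (S : Subgroup Γ).subtype) :=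
    (injective_iff_map_eq_one _).2 fun x hx => Subtype.ext (CfsgLib.Invol.eq_one_of_coprime_of_isPGroup S.2 x.2
      ((CfsgLib.Coprime.pPrimeCore_coprime hp).coprime_dvd_left
        (Subgroup.orderOf_dvd_natCard _ ((QuotientGroup.eq_one_iff _).1 hx))))
  have hZm : Z.map π = Cfsg.centerThompsonAOf ((S.mapSurjective hπs : Sylow p (Γ ⧸ K)) : Subgroup (Γ ⧸ K)) := by
    have h2 := CfsgLib.Fusion.map_zjFun (π.comp (S : Subgroup Γ).subtype) hinj
    rw [← Subgroup.map_map, CfsgLib.Fusion.map_zjFun (S : Subgroup Γ).subtype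
      (S : Subgroup Γ).subtype_injective, Subgroup.range_subtype, MonoidHom.range_comp,
      Subgroup.range_subtype] at h2
    rw [Sylow.coe_mapSurjective]
    exact h2
  rw [← hZm] at hn
  have h3 := hn.comap π
  rwa [Subgroup.comap_map_eq, hπ, QuotientGroup.ker_mk', sup_comm] at h3

end CfsgLib.CoprimeQuad
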